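import Cfsg.Agent.AH.Defs

/-! Groups with conjugacy classes of distinct sizes, III: rational groups, invariant forms. -/

set_option autoImplicit false
set_option linter.unusedSectionVars false

open Cfsg Subgroup CL.Fgs CL.Grp
open scoped Pointwise commutatorElement

namespace CL.AH

variable {G : Type*} [Group G] [Finite G]

theorem zpowers_pow_of_coprime {x : G} {k : ℕ} (hk : k.Coprime (orderOf x)) :
    zpowers (x ^ k) = zpowers x :=
  le_antisymm (zpowers_le.2 (npow_mem_zpowers x k)) (zpowers_le.2 (mem_zpowers_pow_iff.2 hk))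

theorem exists_pow_of_zpowers_eq {x y : G} (h : zpowers x = zpowers y) :
    ∃ k, k < orderOf x ∧ k.Coprime (orderOf x) ∧ x ^ k = y := by
  obtain ⟨k, rfl⟩ := (mem_powers_iff_mem_zpowers.2 (h ▸ mem_zpowers y) : y ∈ Submonoid.powers x)
  refine ⟨k % orderOf x, Nat.mod_lt _ (orderOf_pos x), mem_zpowers_pow_iff.1 ?_, pow_mod_orderOf x k⟩
  rw [pow_mod_orderOf, ← h]
  exact mem_zpowers x

theorem Ah.rat (h : Ah G) : Rat G := fun x y e => h x y (by
  rw [← centralizer_zpowers, ← centralizer_zpowers, e])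

theorem Rat.isConj_pow (h : Rat G) {x : G} {k : ℕ} (hk : k.Coprime (orderOf x)) :
    IsConj x (x ^ k) := h _ _ (zpowers_pow_of_coprime hk).symm

theorem Rat.isConj_inv (h : Rat G) (x : G) : IsConj x x⁻¹ := h _ _ zpowers_inv.symm

theorem Rat.of_surjective (h : Rat G) {H : Type*} [Group H] (f : G →* H)
    (hf : Function.Surjective f) : Rat H := by
  haveI := Finite.of_surjective f hf
  intro x y e
  obtain ⟨x, rfl⟩ := hf x
  obtain ⟨k, -, hk, rfl⟩ := exists_pow_of_zpowers_eq e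
  haveI : NeZero (orderOf x) := ⟨(orderOf_pos x).ne'⟩
  obtain ⟨u, hu⟩ := ZMod.unitsMap_surjective (orderOf_map_dvd f x) (ZMod.unitOfCoprime k hk)
  have h1 : ((u : ZMod (orderOf x)).val : ZMod (orderOf (f x))) = k := by
    have := congrArg Units.val hu
    rw [ZMod.unitsMap_val, ZMod.coe_unitOfCoprime] at this
    rw [ZMod.natCast_val, this]
  rw [← pow_eq_pow_iff_modEq.2 ((ZMod.natCast_eq_natCast_iff _ _ _).1 h1), ← map_pow]
  exact f.map_isConj (h.isConj_pow (ZMod.val_coe_unit_coprime u))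

theorem Rat.quotient (h : Rat G) (N : Subgroup G) [N.Normal] : Rat (G ⧸ N) :=
  h.of_surjective _ (QuotientGroup.mk'_surjective N)

/-- R1: fix `x` and move `y` to another generator of `⟨y⟩`. -/
theorem Rat.exists_conj (h : Rat G) {x y y' : G} (hc : Commute x y)
    (hco : (orderOf x).Coprime (orderOf y)) (hz : zpowers y = zpowers y') :
    ∃ g, g * x * g⁻¹ = x ∧ g * y * g⁻¹ = y' := by
  have ho : orderOf y' = orderOf y := by rw [← Nat.card_zpowers, ← hz, Nat.card_zpowers]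
  have hc' : Commute x y' := by
    obtain ⟨k, rfl⟩ : y' ∈ zpowers y := hz ▸ mem_zpowers y'
    exact hc.zpow_right k
  have hco' : (orderOf x).Coprime (orderOf y') := ho ▸ hco
  have key : ∀ {a b : G}, Commute x a → (orderOf x).Coprime (orderOf a) → zpowers a = zpowers b →
      zpowers (x * b) ≤ zpowers (x * a) := fun c o e => zpowers_le.2 (mul_mem
    (mem_zpowers_mul_of_coprime c o)
    (zpowers_le.2 (mem_zpowers_mul_of_coprime' c o) (e ▸ mem_zpowers _)))
  obtain ⟨g, hg⟩ := isConj_iff.1 (h _ _ (le_antisymm (key hc' hco' hz.symm) (key hc hco hz)))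
  let π : Set ℕ := {r | r ∣ orderOf x}
  have hx : IsPiElt π x := fun r _ hr => hr
  have hy : IsPiElt πᶜ y := fun r hr h1 h2 => hr.one_lt.ne' (Nat.eq_one_of_dvd_coprimes hco h2 h1)
  have hy' : IsPiElt πᶜ y' := hy.of_orderOf_dvd ho.dvd
  exact ⟨g, by rw [← piPart_mul_eq hc hx hy, ← piPart_conj, hg, piPart_mul_eq hc' hx hy',
      piPart_mul_eq hc hx hy],
    by rw [← piPart_mul_eq' hc hx hy, ← piPart_conj, hg, piPart_mul_eq' hc' hx hy']⟩

theorem cent_le_normalizer_zpowers (x : G) : cent(x) ≤ normalizer (zpowers x : Set G) :=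
  (centralizer_zpowers x).ge.trans (centralizer_le_normalizer _)

/-- R2 -/
theorem Rat.card_normalizer (h : Rat G) (x : G) :
    Nat.card (normalizer (zpowers x : Set G)) = (orderOf x).totient * Nat.card cent(x) := by
  classical
  have h1 := ncard_conj_subgroup (normalizer (zpowers x : Set G)) x
  have h2 : {y : G | ∃ g ∈ normalizer (zpowers x : Set G), g * x * g⁻¹ = y} =
      ((((Finset.range (orderOf x)).filter (orderOf x).Coprime).image (x ^ ·) : Finset G) :
        Set G) := by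
    have e : ∀ g : G, MulAut.conj g • zpowers x = zpowers (g * x * g⁻¹) := fun g => by
      rw [conj_smul_eq_map, MonoidHom.map_zpowers]; rfl
    ext y
    simp only [Set.mem_setOf_eq, Finset.coe_image, Finset.coe_filter, Set.mem_image,
      Finset.mem_range]
    constructor
    · rintro ⟨g, hg, rfl⟩
      obtain ⟨k, a, b, c⟩ := exists_pow_of_zpowers_eq
        (((conj_smul_eq_self_iff g _).2 hg).symm.trans (e g))
      exact ⟨k, ⟨a, b.symm⟩, c⟩
    · rintro ⟨k, ⟨-, b⟩, rfl⟩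
      obtain ⟨g, hg⟩ := isConj_iff.1 (h.isConj_pow b.symm)
      exact ⟨g, (conj_smul_eq_self_iff g _).1 (by rw [e, hg, zpowers_pow_of_coprime b.symm]), hg⟩
  rw [h2, Set.ncard_coe_finset, Finset.card_image_of_injOn (pow_injOn_Iio_orderOf.mono fun k hk =>
    Finset.mem_range.1 (Finset.mem_filter.1 hk).1)] at h1
  rw [Nat.totient, h1, ← card_mul_index (cent(x).subgroupOf (normalizer (zpowers x : Set G))),
    mul_comm, Nat.card_congr (subgroupOfEquivOfLe (cent_le_normalizer_zpowers x)).toEquiv]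
  rfl

theorem Rat.totient_mul_dvd (h : Rat G) (x : G) :
    (orderOf x).totient * Nat.card cent(x) ∣ Nat.card G :=
  h.card_normalizer x ▸ card_subgroup_dvd_card _

theorem orderOf_dvd_cent (x : G) : orderOf x ∣ Nat.card cent(x) :=
  orderOf_dvd_natCard _ (self_mem_cent x)

/-- a subgroup of odd order all of whose elements are real in it is trivial -/
theorem eq_bot_of_odd_of_real {A : Subgroup G} (ho : Odd (Nat.card A))
    (hr : ∀ a ∈ A, ∃ g ∈ A, g * a * g⁻¹ = a⁻¹) : A = ⊥ := by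
  refine (eq_bot_iff_forall A).2 fun a ha => ?_
  obtain ⟨g, hg, e⟩ := hr a ha
  have h1 : Commute (g * g) a := mem_cent.1 (mem_cent_iff_conj.2 (by
    rw [show g * g * a * (g * g)⁻¹ = g * (g * a * g⁻¹) * g⁻¹ by group, e,
      show g * a⁻¹ * g⁻¹ = (g * a * g⁻¹)⁻¹ by group, e, inv_inv]))
  have h2 : g ∈ cent(a) := zpowers_le.2 (mem_cent.2 h1)
    (mem_zpowers_sq_of_odd (ho.of_dvd_nat (orderOf_dvd_natCard A hg)))
  rw [mem_cent_iff_conj.1 h2] at e
  exact orderOf_eq_one_iff.1 (Nat.eq_one_of_dvd_coprimes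
    (Nat.coprime_two_right.2 ho) (orderOf_dvd_natCard A ha)
    (orderOf_dvd_of_pow_eq_one (by rw [sq]; exact mul_eq_one_iff_eq_inv.2 e)))

/-- two distinct commuting involutions -/
theorem four_dvd_card {D : Subgroup G} {a b : G} (ha : a ∈ D) (hb : b ∈ D) (ha2 : orderOf a = 2)
    (hb2 : orderOf b = 2) (hne : a ≠ b) (hc : Commute a b) : 4 ∣ Nat.card D := by
  have hn : zpowers b ≤ normalizer (zpowers a : Set G) :=
    (zpowers_le.2 (mem_cent'.2 hc)).trans (cent_le_normalizer_zpowers a)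
  have hP : ∀ {c : G}, orderOf c = 2 → IsPGroup 2 (zpowers c) := fun e =>
    IsPGroup.of_card (n := 1) (by rw [Nat.card_zpowers, e, pow_one])
  have h1 : IsPGroup 2 ↥(zpowers b ⊔ zpowers a) := (hP hb2).to_sup_of_normal_right' (hP ha2) hn
  have h2 : zpowers a < zpowers b ⊔ zpowers a := by
    refine lt_of_le_of_ne le_sup_right fun e => ?_
    obtain ⟨k, hk, e⟩ : ∃ k < 2, a ^ k = b := by
      have : b ∈ zpowers a := e ▸ mem_sup_left (mem_zpowers b)
      obtain ⟨k, rfl⟩ := (mem_powers_iff_mem_zpowers.2 this : b ∈ Submonoid.powers a)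
      exact ⟨k % 2, Nat.mod_lt _ two_pos, by rw [← ha2, pow_mod_orderOf]⟩
    interval_cases k
    · rw [← e, pow_zero, orderOf_one] at hb2; omega
    · exact hne (by rw [← e, pow_one])
  obtain ⟨n, hn⟩ := IsPGroup.iff_card.1 h1
  have h3 := card_lt_card_of_lt h2
  rw [Nat.card_zpowers, ha2, hn] at h3
  refine dvd_trans ?_ (card_dvd_of_le (sup_le (zpowers_le.2 hb) (zpowers_le.2 ha)))
  rw [hn]
  exact pow_dvd_pow 2 (show 2 ≤ n by
    by_contra h4
    have : n ≤ 1 := by omega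
    interval_cases n <;> omega)

/-- if an element of prime order `r` has centralizer order not divisible by `r ^ 2`, all nontrivial
`r`-elements have centralizers of the same order -/
theorem l3 {r : ℕ} (hr : r.Prime) {u b : G} (hu : orderOf u = r) (h9 : ¬ r ^ 2 ∣ Nat.card cent(u))
    (hb : IsPiElt {r} b) (hb1 : b ≠ 1) : Nat.card cent(b) = Nat.card cent(u) := by
  haveI := Fact.mk hr
  have hu' : IsPiElt {r} u := (isPiElt_singleton_iff hr).2 ⟨1, by rw [hu, pow_one]⟩
  obtain ⟨P, hP⟩ := hu'.exists_mem_sylow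
  have key : ∀ D : Subgroup G, IsPGroup r D → D ≤ cent(u) → u ∈ D → D = zpowers u := by
    intro D h1 h2 h3
    obtain ⟨n, hn⟩ := IsPGroup.iff_card.1 h1
    refine (eq_of_le_of_card_ge (zpowers_le.2 h3) ?_).symm
    rw [Nat.card_zpowers, hu, hn]
    by_contra h4
    refine h9 ((pow_dvd_pow r ?_).trans (hn ▸ card_dvd_of_le h2))
    by_contra h5
    exact h4 ((Nat.pow_le_pow_right hr.pos (show n ≤ 1 by omega)).trans (pow_one r).le)
  have hu1 : u ≠ 1 := fun e => hr.one_lt.ne (by rw [← hu, e, orderOf_one])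
  have h1 := key (P ⊓ cent(u)) P.2.to_inf_left inf_le_right ⟨hP, self_mem_cent u⟩
  have gen : ∀ z ∈ zpowers u, z ≠ 1 → zpowers z = zpowers u := fun z hz hz1 =>
    eq_of_le_of_card_ge (zpowers_le.2 hz) (by
      rw [Nat.card_zpowers, Nat.card_zpowers, hu]
      have := orderOf_dvd_of_mem_zpowers hz
      rw [hu] at this
      exact (((Nat.dvd_prime hr).1 this).resolve_left (mt orderOf_eq_one_iff.1 hz1)).ge)
  haveI : Nontrivial P := ⟨⟨⟨u, hP⟩, 1, fun e => hu1 (congrArg Subtype.val e)⟩⟩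
  haveI := P.2.center_nontrivial
  obtain ⟨⟨z, hz⟩, hz1⟩ := exists_ne (1 : center P)
  have hzc : (P : Subgroup G) ≤ cent((z : G)) := fun g hg =>
    mem_cent.2 (congrArg Subtype.val (mem_center_iff.1 hz ⟨g, hg⟩))
  have h2 := gen z (h1 ▸ ⟨z.2, mem_cent_comm.1 (hzc hP)⟩) fun e =>
    hz1 (Subtype.ext (Subtype.ext e))
  have h3 := key P P.2 (by rwa [← centralizer_zpowers, h2, centralizer_zpowers] at hzc) hP
  obtain ⟨g, hg⟩ := hb.exists_conj_mem_sylow P
  rw [← card_cent_conj g b, ← centralizer_zpowers, gen _ (h3 ▸ hg) (by simpa using hb1),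
    centralizer_zpowers]

/-- the form used in the case analysis -/
theorem l3' {t u b : G} (hu : orderOf u = 3) (htu : Commute t u)
    (h6 : Nat.card ↥(cent(t) ⊓ cent(u)) = 6) (hb : IsPiElt {3} b) (hb1 : b ≠ 1)
    (htb : Commute t b) : Nat.card ↥(cent(t) ⊓ cent(b)) = 6 := by
  have h := l3 (G := cent(t)) Nat.prime_three (u := ⟨u, mem_cent'.2 htu⟩)
    (b := ⟨b, mem_cent'.2 htb⟩) ((orderOf_coe _).symm.trans hu)
    (by rw [card_cent_coe, inf_comm, h6]; decide) (isPiElt_coe_iff.1 hb)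
    fun e => hb1 (congrArg Subtype.val e)
  rwa [card_cent_coe, card_cent_coe, inf_comm, inf_comm cent(u), h6] at h

/-- an invariant nondegenerate symmetric or skew form on the normal subgroup `M` -/
structure Fm (M : Subgroup G) (q : ℕ) (β : G → G → ZMod q) (ε : ZMod q) : Prop where
  mul_left : ∀ a ∈ M, ∀ b ∈ M, ∀ c ∈ M, β (a * b) c = β a c + β b c
  mul_right : ∀ a ∈ M, ∀ b ∈ M, ∀ c ∈ M, β a (b * c) = β a b + β a c
  conj : ∀ g, ∀ a ∈ M, ∀ b ∈ M, β (g * a * g⁻¹) (g * b * g⁻¹) = β a b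
  nondeg : ∀ a ∈ M, (∀ b ∈ M, β a b = 0) → a = 1
  sq : ε * ε = 1
  symm : ∀ a ∈ M, ∀ b ∈ M, β a b = ε * β b a

theorem exists_form_add {V : Type*} [AddCommGroup V] [Finite V] [Nontrivial V] {q : ℕ}
    [Fact q.Prime] [Module (ZMod q) V] (ρ : G →* AddMonoid.End V)
    (hirr : ∀ W : AddSubgroup V, (∀ g, ∀ v ∈ W, ρ g v ∈ W) → W = ⊥ ∨ W = ⊤)
    (hr : ∀ x : G, IsConj x x⁻¹) : ∃ (b : V →+ V →+ ZMod q) (ε : ZMod q),
      (∀ x, (∀ y, b x y = 0) → x = 0) ∧ (∀ g x y, b (ρ g x) (ρ g y) = b x y) ∧ ε * ε = 1 ∧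
        ∀ x y, b x y = ε * b y x := by
  let ρ' : G →* Module.End (ZMod q) V :=
    { toFun := fun g => AddMonoidHom.toZModLinearMap q (ρ g)
      map_one' := LinearMap.ext fun v => by
        change ρ 1 v = v
        rw [map_one]; rfl
      map_mul' := fun g h => LinearMap.ext fun v => by
        change ρ (g * h) v = ρ g (ρ h v)
        rw [map_mul]; rfl }
  have hirr' : ∀ W : Submodule (ZMod q) V, (∀ g, ∀ v ∈ W, ρ' g v ∈ W) → W = ⊥ ∨ W = ⊤ :=
    fun W hW => (hirr W.toAddSubgroup hW).imp (fun e => Submodule.toAddSubgroup_injective e)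
      fun e => Submodule.toAddSubgroup_injective e
  obtain ⟨b₀, h0, hb₀⟩ := exists_form_lin ρ' hirr' hr
  obtain ⟨b, ε, h0, hb, hε, hs⟩ : ∃ (b : V →ₗ[ZMod q] V →ₗ[ZMod q] ZMod q)
      (ε : ZMod q), b ≠ 0 ∧ (∀ g x y, b (ρ' g x) (ρ' g y) = b x y) ∧ ε * ε = 1 ∧
        ∀ x y, b x y = ε * b y x := by
    by_cases h : b₀ + b₀.flip = 0
    · exact ⟨b₀, -1, h0, hb₀, by ring, fun x y => by
        rw [neg_one_mul]; exact eq_neg_of_add_eq_zero_left (LinearMap.congr_fun₂ h x y)⟩
    · exact ⟨b₀ + b₀.flip, 1, h, fun g x y => congrArg₂ (· + ·) (hb₀ g x y) (hb₀ g y x),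
        one_mul 1, fun x y => by simp [add_comm]⟩
  have hk : LinearMap.ker b = ⊥ := by
    refine (hirr' _ fun g v hv => LinearMap.ext fun y => ?_).resolve_right fun e =>
      h0 (LinearMap.ker_eq_top.1 e)
    rw [← Representation.self_inv_apply ρ' g y, hb, show b v = 0 from hv]
    rfl
  exact ⟨AddMonoidHom.mk' (fun x => (b x).toAddMonoidHom) fun x y => by rw [map_add]; rfl,
    ε, fun x h => (Submodule.eq_bot_iff _).1 hk x (LinearMap.ext h), hb, hε, hs⟩

theorem exists_fm {M : Subgroup G} (hM : IsMinNormal M) {q : ℕ} (hq : q.Prime)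
    (he : IsElementaryAbelian q M) (hr : ∀ x : G, IsConj x x⁻¹) : ∃ β ε, Fm M q β ε := by
  classical
  haveI := hM.normal
  haveI := hM.nontrivial
  letI : CommGroup M := { (inferInstance : Group M) with mul_comm := he.1.1.1 }
  let ρ : G →* AddMonoid.End (Additive M) :=
    { toFun := fun g => MonoidHom.toAdditive ((MulAut.conjNormal g : MulAut M) : M →* M)
      map_one' := by rw [map_one]; rfl
      map_mul' := fun g h => by rw [map_mul]; rfl }
  haveI := Fact.mk hq
  obtain ⟨b, ε, h0, hb, hε, hs⟩ := @exists_form_add G _ _ (Additive M) _ _ _ q _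
    (AddCommGroup.zmodModule fun x => Subtype.ext (he.2 _ x.toMul.2)) ρ (by
    intro W hW
    let K : Subgroup G := (AddSubgroup.toSubgroup' W).map M.subtype
    haveI : K.Normal := ⟨by
      rintro _ ⟨a, ha, rfl⟩ g
      exact ⟨_, hW g _ ha, rfl⟩⟩
    by_cases h : K = ⊥
    · exact Or.inl ((AddSubgroup.eq_bot_iff_forall W).2 fun v hv => Subtype.ext
        ((eq_bot_iff_forall K).1 h _ ⟨v.toMul, hv, rfl⟩))
    · refine Or.inr ((AddSubgroup.eq_top_iff' W).2 fun v => ?_)
      obtain ⟨a, ha, e⟩ : (v.toMul : G) ∈ K := (hM.eq_of_le h (map_subtype_le _)).ge v.toMul.2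
      obtain rfl : a = v.toMul := Subtype.ext e
      exact ha) hr
  let ι : G → Additive M := fun a => if h : a ∈ M then Additive.ofMul ⟨a, h⟩ else 0
  have hι : ∀ a (h : a ∈ M), ι a = Additive.ofMul ⟨a, h⟩ := fun a h => dif_pos h
  have h1 : ∀ a ∈ M, ∀ c ∈ M, ι (a * c) = ι a + ι c := fun a ha c hc => by
    rw [hι _ ha, hι _ hc, hι _ (mul_mem ha hc)]; rfl
  have h2 : ∀ g, ∀ a ∈ M, ι (g * a * g⁻¹) = ρ g (ι a) := fun g a ha => by
    rw [hι _ ha, hι _ (hM.normal.conj_mem a ha g)]; rfl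
  refine ⟨fun a c => b (ι a) (ι c), ε, fun a ha c hc d _ => by rw [h1 a ha c hc, map_add]; rfl,
    fun a _ c hc d hd => by rw [h1 c hc d hd, map_add], fun g a ha c hc => by
      rw [h2 g a ha, h2 g c hc, hb], fun a ha h => ?_, hε, fun a _ c _ => hs _ _⟩
  have h3 := h0 (ι a) fun y => by
    have := h _ y.toMul.2
    rwa [hι _ y.toMul.2] at this
  rw [hι _ ha] at h3
  exact congrArg Subtype.val h3

namespace Fm
variable {M : Subgroup G} {q : ℕ} {β : G → G → ZMod q} {ε : ZMod q}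

theorem one_left (F : Fm M q β ε) {b : G} (hb : b ∈ M) : β 1 b = 0 := by
  have := F.mul_left 1 M.one_mem 1 M.one_mem b hb
  rwa [mul_one, left_eq_add] at this

theorem one_right (F : Fm M q β ε) {b : G} (hb : b ∈ M) : β b 1 = 0 := by
  rw [F.symm b hb 1 M.one_mem, F.one_left hb, mul_zero]

theorem inv_left (F : Fm M q β ε) {a b : G} (ha : a ∈ M) (hb : b ∈ M) : β a⁻¹ b = -β a b :=
  eq_neg_of_add_eq_zero_left (by
    rw [← F.mul_left _ (inv_mem ha) _ ha _ hb, inv_mul_cancel, F.one_left hb])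

theorem inv_right (F : Fm M q β ε) {a b : G} (ha : a ∈ M) (hb : b ∈ M) : β a b⁻¹ = -β a b :=
  eq_neg_of_add_eq_zero_left (by
    rw [← F.mul_right _ ha _ (inv_mem hb) _ hb, inv_mul_cancel, F.one_right ha])

theorem pow_left (F : Fm M q β ε) {a b : G} (ha : a ∈ M) (hb : b ∈ M) (n : ℕ) :
    β (a ^ n) b = n * β a b := by
  induction n with
  | zero => rw [pow_zero, F.one_left hb, Nat.cast_zero, zero_mul]
  | succ n ih => rw [pow_succ, F.mul_left _ (pow_mem ha n) _ ha _ hb, ih]; push_cast; ring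

theorem pow_right (F : Fm M q β ε) {a b : G} (ha : a ∈ M) (hb : b ∈ M) (n : ℕ) :
    β a (b ^ n) = n * β a b := by
  induction n with
  | zero => rw [pow_zero, F.one_right ha, Nat.cast_zero, zero_mul]
  | succ n ih => rw [pow_succ, F.mul_right _ ha _ (pow_mem hb n) _ hb, ih]; push_cast; ring

/-- for fixed `a`, the elements of `M` orthogonal to `a` -/
def perp (F : Fm M q β ε) {a : G} (ha : a ∈ M) : Subgroup G where
  carrier := {b | b ∈ M ∧ β a b = 0}
  mul_mem' := fun h k => ⟨mul_mem h.1 k.1, by rw [F.mul_right _ ha _ h.1 _ k.1, h.2, k.2, add_zero]⟩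
  one_mem' := ⟨M.one_mem, F.one_right ha⟩
  inv_mem' := fun h => ⟨inv_mem h.1, by rw [F.inv_right ha h.1, h.2, neg_zero]⟩

/-- the form stays nondegenerate on the fixed points of a coprime subgroup -/
theorem nondeg_fix (F : Fm M q β ε) [M.Normal] (hs : Group.IsSolvable M) {B : Subgroup G}
    (hco : (Nat.card B).Coprime (Nat.card M)) {w : G} (hw : w ∈ M ⊓ centralizer (B : Set G))
    (h : ∀ v ∈ M ⊓ centralizer (B : Set G), β w v = 0) : w = 1 := by
  refine F.nondeg w hw.1 fun v hv => ((show M ≤ F.perp hw.1 from ?_) hv).2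
  refine (commutator_sup_centralizer_eq (A := B) (K := M) le_normalizer_of_normal hco
    (Or.inr hs)).ge.trans (sup_le (commutator_le.2 fun m hm b hb => ?_) fun v hv => ⟨hv.1, h v hv⟩)
  have h1 : b * m⁻¹ * b⁻¹ ∈ M := ‹M.Normal›.conj_mem _ (inv_mem hm) b
  rw [show ⁅m, b⁆ = m * (b * m⁻¹ * b⁻¹) by simp only [commutatorElement_def, mul_assoc]]
  refine ⟨mul_mem hm h1, ?_⟩
  have h2 := F.conj b w hw.1 _ (inv_mem hm)
  rw [hw.2 b hb, mul_inv_cancel_right] at h2
  rw [F.mul_right _ hw.1 _ hm _ h1, h2, F.inv_right hw.1 hm, add_neg_cancel]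

/-- in a rational group the form is alternating when `q ≥ 5` -/
theorem alt (F : Fm M q β ε) (hq : q.Prime) (h5 : 5 ≤ q) (he : ∀ a ∈ M, a ^ q = 1) (h : Rat G)
    {a : G} (ha : a ∈ M) : β a a = 0 := by
  haveI := Fact.mk hq
  obtain ⟨g, hg⟩ := isConj_iff.1 (h.isConj_pow (x := a) (k := 2) (Nat.Coprime.coprime_dvd_right
    (orderOf_dvd_of_pow_eq_one (he a ha)) ((Nat.coprime_primes Nat.prime_two hq).2 (by omega))))
  have h1 := F.conj g a ha a ha
  rw [hg, F.pow_left ha (pow_mem ha 2), F.pow_right ha ha] at h1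
  have h3 : ((3 : ℕ) : ZMod q) ≠ 0 := fun e => by
    have := Nat.le_of_dvd (by omega) ((ZMod.natCast_eq_zero_iff 3 q).1 e)
    omega
  refine (mul_eq_zero.1 (?_ : ((3 : ℕ) : ZMod q) * β a a = 0)).resolve_left h3
  push_cast at h1 ⊢
  linear_combination h1

end Fm

/-- fixed points of a `p'`-subgroup on a `p`-chief factor of a rational group -/
theorem card_fix_ne (h : Rat G) {M : Subgroup G} (hM : IsMinNormal M) {p : ℕ} (hp : p.Prime)
    (h5 : 5 ≤ p) (hP : IsPGroup p M) {B : Subgroup G} (hB : ¬ p ∣ Nat.card B) :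
    Nat.card ↥(M ⊓ centralizer (B : Set G)) ≠ p := by
  haveI := Fact.mk hp
  haveI := hM.normal
  have he := hM.isElementaryAbelian_of_isPGroup hP
  obtain ⟨β, ε, F⟩ := exists_fm hM hp he h.isConj_inv
  intro hc
  obtain ⟨n, hn⟩ := IsPGroup.iff_card.1 hP
  obtain ⟨w, hw, hw1⟩ := (bot_or_exists_ne_one (M ⊓ centralizer (B : Set G))).resolve_left fun e =>
    hp.one_lt.ne (by rw [← hc, e, card_bot])
  haveI := hP.isNilpotent
  refine hw1 (F.nondeg_fix inferInstance
    (hn ▸ ((Nat.Prime.coprime_iff_not_dvd hp).2 hB).symm.pow_right n) hw fun v hv => ?_)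
  have h1 : zpowers w = M ⊓ centralizer (B : Set G) := eq_of_le_of_card_ge (zpowers_le.2 hw) (by
    rw [hc, Nat.card_zpowers, orderOf_eq_prime (he.2 w hw.1) hw1])
  exact ((show zpowers w ≤ F.perp hw.1 from zpowers_le.2 ⟨hw.1, F.alt hp h5 he.2 h hw.1⟩)
    (h1 ▸ hv)).2

end CL.AH
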