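import Cfsg.Agent.AH.Basic
import Cfsg.Agent.Grp.PGroupCyc

/-! Groups with conjugacy classes of distinct sizes: small centralizers in rational groups. -/

set_option autoImplicit false
set_option linter.style.haveILetI false

open Cfsg Subgroup CL.Fgs CL.Grp

namespace CL.AH

universe u

variable {K : Type*} [Group K] [Finite K]

theorem sylow_card (S : Sylow 2 K) (h : 16 ∣ Nat.card K) : ∃ n, 3 ≤ n ∧ Nat.card S = 2 ^ (n + 1) := by
  have h1 : 4 ≤ (Nat.card K).factorization 2 := (Nat.prime_two.pow_dvd_iff_le_factorization Nat.card_pos.ne').1 h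
  exact ⟨(Nat.card K).factorization 2 - 1, by omega, by rw [S.card_eq_multiplicity]; congr 1; omega⟩

theorem big (h : Rat K) (S : Sylow 2 K) {n k : ℕ} (hn : 3 ≤ n) (hS : Nat.card S = 2 ^ (n + 1)) {a : S} (hk : n ≤ k)
    (ha : orderOf a = 2 ^ k) : False := by
  have h1 := (Nat.mul_dvd_mul_left _ (orderOf_dvd_cent (a : K))).trans (h.totient_mul_dvd a)
  rw [orderOf_coe, ha, Nat.totient_prime_pow Nat.prime_two (by omega), show 2 - 1 = 1 from rfl, mul_one, ← pow_add,
    Nat.prime_two.pow_dvd_iff_le_factorization Nat.card_pos.ne'] at h1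
  have := Nat.pow_right_injective le_rfl (S.card_eq_multiplicity.symm.trans hS)
  omega

theorem s8 : S8.{u} := by
  intro K _ _ h x hx h16
  obtain ⟨S, hS⟩ := IsPiElt.exists_mem_sylow (p := 2) (x := x)
    ((isPiNum_singleton_pow Nat.prime_two 2).of_dvd ((orderOf_dvd_cent x).trans hx.dvd))
  obtain ⟨n, h1, h2⟩ := sylow_card S h16
  obtain ⟨a, b, hab⟩ := exists_dqsGen_of_card_centralizer_le (by omega) h2 ⟨x, hS⟩
    ((card_cent_coe _).trans_le (hx ▸ card_le_of_le inf_le_left))
  exact big h S h1 h2 le_rfl hab.ord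

theorem bot : Bot.{u} := by
  intro K _ _ h hk
  have e0 : normalizer ((⊥ : Subgroup K) : Set K) = ⊤ := normalizer_eq_top _
  have h1 := hk.idx
  rw [e0, relIndex_top_right, index_bot] at h1
  obtain ⟨z, hz⟩ := exists_prime_orderOf_dvd_card' (G := K) 2 (by omega)
  have z1 : z * z = 1 := by rw [← sq, ← hz, pow_orderOf_eq_one]
  have z2 : z ≠ 1 := by rintro rfl; simp at hz
  have u : ∀ y, y * y = 1 → y = 1 ∨ y = z := fun y hy => or_iff_not_imp_left.2 fun h1 => by
    have := mem_bot.1 (hk.uniq y (e0 ▸ mem_top y) z (e0 ▸ mem_top z) (mt mem_bot.1 h1) (mt mem_bot.1 z2)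
      (mem_bot.2 hy) (mem_bot.2 z1))
    rw [← z1] at this
    exact mul_right_cancel this
  have u2 : ∀ E : Subgroup K, (∀ y ∈ E, y * y = 1) → Nat.card E ≤ 2 := fun E hE =>
    (card_le_of_le (K := zpowers z) fun y hy => by
      obtain rfl | rfl := u y (hE y hy)
      exacts [one_mem _, mem_zpowers _]).trans_eq (by rw [Nat.card_zpowers, hz])
  have h24 : Nat.card K = 24 := by
    by_contra h2
    obtain ⟨S⟩ : Nonempty (Sylow 2 K) := inferInstance
    obtain ⟨n, h3, h4⟩ := sylow_card S (by omega)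
    obtain h5 | ⟨-, m, a, b, h5, -⟩ := isCyclic_or_quaternion_of_forall_ea S.2 fun E hE e => by
      have := u2 (E.map (Subgroup.subtype _)) (by
        rintro _ ⟨y, hy, rfl⟩
        rw [← map_mul, ← sq, hE.2 y hy, map_one])
      rw [card_map_subtype, e] at this
      omega
    · obtain ⟨a, ha⟩ := h5.exists_ofOrder_eq_natCard
      exact big h S h3 h4 n.le_succ (ha.trans h4)
    · have := Nat.pow_right_injective le_rfl (h4.symm.trans h5.card)
      exact big h S h3 h4 (by omega) h5.ord
  haveI := Fact.mk Nat.prime_three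
  obtain ⟨s, hs⟩ := exists_prime_orderOf_dvd_card' (G := K) 3 (by omega)
  have c2 : 2 ∣ Nat.card cent(s) := hz ▸ orderOf_dvd_natCard _ (mem_cent'.2 (mul_inv_eq_iff_eq_mul.1
    ((u (s * z * s⁻¹) (by rw [conj_mul, z1]; simp)).resolve_left (by simpa using z2))))
  have c3 := orderOf_dvd_cent s
  have c4 := h.card_normalizer s
  let P : Sylow 3 K := Sylow.ofCard (zpowers s) (by
    rw [Nat.card_zpowers, hs, h24, show 24 = 3 ^ 1 * 8 from rfl, Nat.factorization_mul (by norm_num) (by norm_num),
      Nat.prime_three.factorization_pow]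
    simp [Nat.factorization_eq_zero_of_not_dvd])
  have c5 := card_sylow_modEq_one 3 K
  rw [P.card_eq_index_normalizer] at c5
  have c6 := (normalizer (zpowers s : Set K)).card_mul_index
  rw [hs] at c3 c4
  rw [c4, h24, show Nat.totient 3 = 2 from rfl] at c6
  have c7 : Nat.card cent(s) = 12 := by
    change (normalizer (zpowers s : Set K)).index % 3 = 1 % 3 at c5
    obtain ⟨j, hj⟩ : 6 ∣ Nat.card cent(s) := by omega
    rw [hj] at c6 ⊢
    generalize (normalizer (zpowers s : Set K)).index = i at *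
    have : j * i = 2 := by nlinarith
    have h2 : i ≤ 2 := Nat.le_of_dvd two_pos (Dvd.intro_left j this)
    interval_cases i <;> omega
  obtain ⟨R, hR⟩ := Sylow.exists_subgroup_card_pow_prime (G := cent(s)) 2 (n := 2) (by rw [c7]; decide)
  obtain ⟨_, ⟨w, hw, rfl⟩, w2⟩ : ∃ y ∈ R.map (Subgroup.subtype _), y * y ≠ 1 := by
    by_contra! h2
    have := u2 _ h2
    rw [card_map_subtype, hR] at this
    omega
  have w4 : orderOf (w : K) = 2 ^ (1 + 1) := orderOf_eq_prime_pow (by rwa [pow_one, sq]) (by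
    rw [← orderOf_dvd_iff_pow_eq_one, orderOf_coe, ← hR]; exact orderOf_dvd_natCard R hw)
  have := (Nat.mul_dvd_mul_left _ (orderOf_dvd_cent ((w : K) * s))).trans (h.totient_mul_dvd _)
  rw [(mem_cent.1 w.2).orderOf_mul_eq_mul_orderOf_of_coprime (by rw [w4, hs]; decide), w4, hs, h24] at this
  exact absurd this (by decide)

end CL.AH
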