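import Cfsg.Agent.AH.Defs

/-! Groups with conjugacy classes of distinct sizes: an element with centralizer of order two. -/

set_option autoImplicit false

open Cfsg Subgroup CL.Fgs MulAction

namespace CL.AH

universe u

namespace C2J

variable {G : Type*} [Group G]

theorem ne_two (h : Ah G) : Nat.card G ≠ 2 := fun e => by
  have := Fact.mk Nat.prime_two
  have hc : IsCyclic G := isCyclic_of_prime_card e
  have : ∀ y : G, y = 1 := fun y => isConj_one_right.1 (h 1 y (by
    rw [cent_one, cent_eq_top_iff.2 (mem_center_iff.2 fun g => hc.isMulCommutative.is_comm.comm g y)]))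
  have : Subsingleton G := ⟨fun a b => (this a).trans (this b).symm⟩
  have := Nat.card_of_subsingleton (1 : G)
  omega

theorem two {y w : G} (h : Nat.card cent(y) = 2) (h1 : y ≠ 1) (hw : Commute w y) : w = 1 ∨ w = y := by
  obtain ⟨t, -, ht⟩ := (Nat.card_eq_two_iff' (1 : cent(y))).1 h
  exact or_iff_not_imp_left.2 fun e => congrArg Subtype.val
    ((ht ⟨w, mem_cent.2 hw⟩ fun a => e (congrArg Subtype.val a)).trans
      (ht ⟨y, self_mem_cent y⟩ fun a => h1 (congrArg Subtype.val a)).symm)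

end C2J

open C2J in
theorem c2 : C2.{u} := by
  intro G _ _ h x hx
  have x1 : x ≠ 1 := fun e => ne_two h (by rwa [e, cent_one, card_top] at hx)
  have hG := card_cent_mul_cs x
  have n1 : ∀ y, IsConj x y → y ≠ 1 := fun y a e => x1 (isConj_one_left.1 (e ▸ a))
  have hc : ∀ y, IsConj x y → ∀ w, Commute w y → w = 1 ∨ w = y := fun y a w =>
    two (card_cent_eq_of_isConj a ▸ hx) (n1 y a)
  have sq : ∀ y, IsConj x y → y⁻¹ = y := fun y a =>
    (hc y a _ (Commute.refl y).inv_left).resolve_left (inv_ne_one.2 (n1 y a))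
  have m1 : ∀ y w, IsConj x y → IsConj x w → ¬ IsConj x (y * w) := fun y w a b c => by
    have := sq _ c
    rw [mul_inv_rev, sq y a, sq w b] at this
    rcases hc y a w this with e | e
    · exact n1 w b e
    · exact n1 _ c (by rw [e, ← sq y a, inv_mul_eq_one, sq y a])
  have hn : ({y | IsConj x y}ᶜ : Set G).ncard = cs(x) := by
    have := Set.ncard_add_ncard_compl {y | IsConj x y}
    rw [ncard_isConj, ← hG, hx] at this
    omega
  have m2 : ∀ y n, IsConj x y → ¬ IsConj x n → IsConj x (y * n) := fun y n a b => by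
    obtain ⟨w, c, rfl⟩ := Set.surj_on_of_inj_on_of_ncard_le (s := {y | IsConj x y}) (t := {y | IsConj x y}ᶜ)
      (fun w _ => y * w) (fun w c => m1 y w a c) (fun _ _ _ _ => mul_left_cancel)
      (by rw [hn, ncard_isConj]) (Set.toFinite _) n b
    have : y * (y * w) = w := by simpa only [sq y a] using mul_inv_cancel_left y w
    rwa [this]
  have iv : ∀ y n, IsConj x y → ¬ IsConj x n → y * n * y⁻¹ = n⁻¹ := fun y n a b => by
    have := sq _ (m2 y n a b)
    rw [mul_inv_eq_iff_eq_mul, ← this, mul_inv_rev, sq y a]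
  have m3 : ∀ n n', ¬ IsConj x n → ¬ IsConj x n' → ¬ IsConj x (n * n') := fun n n' a b c =>
    m1 _ _ (IsConj.refl x) c (mul_assoc x n n' ▸ m2 _ _ (m2 _ _ (IsConj.refl x) a) b)
  have cm : ∀ n n', ¬ IsConj x n → ¬ IsConj x n' → Commute n n' := fun n n' a b => by
    have := iv x _ (IsConj.refl x) (m3 _ _ a b)
    rw [← conj_mul, iv x n (IsConj.refl x) a, iv x n' (IsConj.refl x) b, ← mul_inv_rev, inv_inj] at this
    exact this.symm
  have ce : ∀ n, ¬ IsConj x n → n ≠ 1 → ∀ g, g ∈ cent(n) ↔ ¬ IsConj x g := fun n a b g =>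
    ⟨fun c d => (hc g d n (mem_cent'.1 c)).elim b fun e => a (e ▸ d), fun c => mem_cent.2 (cm g n c a)⟩
  have o1 : ¬ IsConj x 1 := fun a => n1 1 a rfl
  obtain ⟨n, a, b⟩ : ∃ n, ¬ IsConj x n ∧ n ≠ 1 := by
    by_contra! hh
    have : ({y | IsConj x y}ᶜ : Set G) = {1} :=
      Set.eq_singleton_iff_unique_mem.2 ⟨o1, fun y hy => hh y hy⟩
    rw [this, Set.ncard_singleton] at hn
    exact ne_two h (by rw [← hG, hx, ← hn])
  have nx : ¬ Commute n x := fun e => (hc x (IsConj.refl x) n e).elim b fun e => a (e ▸ IsConj.refl x)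
  have h3 : cs(x) = 3 := by
    rw [← hn]
    refine Set.ncard_eq_three.2 ⟨1, n, n⁻¹, b.symm, (inv_ne_one.2 b).symm, fun e => nx ?_, Set.ext fun y => ?_⟩
    · exact (mul_inv_eq_iff_eq_mul.1 ((iv x n (IsConj.refl x) a).trans e.symm)).symm
    refine ⟨fun hy => or_iff_not_imp_left.2 fun y1 => ?_, ?_⟩
    · obtain ⟨g, rfl⟩ := isConj_iff.1 (h n y (by
        rw [show cent(n) = cent(y) from Subgroup.ext fun g => (ce n a b g).trans (ce y hy y1 g).symm]))
      by_cases c : IsConj x g
      · exact Or.inr (iv g n c a)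
      · exact Or.inl (mul_inv_eq_iff_eq_mul.2 (cm g n c a))
    · rintro (rfl | rfl | rfl)
      exacts [o1, a, fun c => a (by rwa [← sq _ c, inv_inv] at c)]
  have hi : Function.Injective (toPermHom G (G ⧸ cent(x))) := by
    rw [← MonoidHom.ker_eq_bot_iff, ← normalCore_eq_ker, eq_bot_iff]
    intro y hy
    refine (hc x (IsConj.refl x) y (mem_cent.1 (normalCore_le _ hy))).resolve_right fun e => ?_
    rw [e] at hy
    rcases hc x (IsConj.refl x) _ (mem_cent.1 (hy n)) with e | e
    exacts [x1 (conj_eq_one_iff.1 e), nx (mul_inv_eq_iff_eq_mul.1 e)]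
  have hq : Nat.card (G ⧸ cent(x)) = 3 := h3
  exact ⟨(MulEquiv.ofBijective _ ((Nat.bijective_iff_injective_and_card _).2 ⟨hi, by
    rw [Nat.card_perm, hq, ← hG, hx, h3]; rfl⟩)).trans (Finite.equivFinOfCardEq hq).permCongrHom⟩

end CL.AH
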