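import Cfsg.Agent.AH.Basic

/-! Groups with conjugacy classes of distinct sizes: centralizers of order three and six. -/

set_option autoImplicit false
set_option linter.style.haveILetI false

open Cfsg Subgroup CL.Fgs CL.Grp

namespace CL.AH

universe u

theorem l6 {K : Type*} [Group K] [Finite K] {A X : Subgroup K} (h : Pk A)
    (hX : ∀ n ∈ normalizer (A : Set K), ∃ b ∈ A, b * n ∈ X) :
    ∃ a ∈ X, ∃ b ∈ X, Commute a b ∧ IsPiElt {2} a ∧ IsPiElt {3} b ∧ a ∉ A ∧ b ∉ A := by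
  haveI := Fact.mk Nat.prime_three
  let f := QuotientGroup.mk' (A.subgroupOf (normalizer (A : Set K)))
  have f1 : ∀ n, f n = 1 ↔ (n : K) ∈ A := fun n => QuotientGroup.eq_one_iff n
  have h1 : 2 ∣ A.relIndex (normalizer (A : Set K)) ∧ 3 ∣ A.relIndex (normalizer (A : Set K)) := by
    have := h.idx
    omega
  obtain ⟨z, hz⟩ := exists_prime_orderOf_dvd_card' 2 h1.1
  obtain ⟨y, hy⟩ := exists_prime_orderOf_dvd_card' 3 h1.2
  have u : ∀ a b : normalizer (A : Set K) ⧸ A.subgroupOf (normalizer (A : Set K)), orderOf a = 2 → orderOf b = 2 →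
      a * b = 1 := fun a b ha hb => by
    have k : ∀ n, orderOf (f n) = 2 → (n : K) ∉ A ∧ (n : K) * n ∈ A := fun n hn =>
      ⟨fun e => by simp [(f1 n).2 e] at hn, (f1 (n * n)).1 (by rw [map_mul, ← sq, ← hn, pow_orderOf_eq_one])⟩
    obtain ⟨a, rfl⟩ := QuotientGroup.mk'_surjective _ a
    obtain ⟨b, rfl⟩ := QuotientGroup.mk'_surjective _ b
    exact (f1 (a * b)).2 (h.uniq a a.2 b b.2 (k a ha).1 (k b hb).1 (k a ha).2 (k b hb).2)
  have c : Commute z y := (mem_cent.1 (mem_cent_iff_conj.2 (mul_right_cancel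
    ((u _ z ((orderOf_conj' y z).trans hz) hz).trans (u z z hz hz).symm)))).symm
  obtain ⟨n, hn⟩ := QuotientGroup.mk'_surjective _ (z * y)
  obtain ⟨b, hb, hx⟩ := hX n n.2
  have e : f (⟨b, le_normalizer hb⟩ * n) = z * y := by rw [map_mul, (f1 _).2 hb, one_mul]; exact hn
  have p : ∀ {r s : ℕ} {w : normalizer (A : Set K) ⧸ A.subgroupOf (normalizer (A : Set K))}, r.Prime → r ≠ s →
      orderOf w = r → IsPiElt {r} w ∧ IsPiElt ({s}ᶜ : Set ℕ) w ∧ w ≠ 1 := fun {r s w} hr hs hw => by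
    have a : IsPiElt {r} w := (isPiElt_singleton_iff hr).2 ⟨1, by rw [hw, pow_one]⟩
    exact ⟨a, a.mono (Set.singleton_subset_iff.2 hs), fun e => hr.one_lt.ne (by rw [← hw, e, orderOf_one])⟩
  obtain ⟨a1, a2, a3⟩ := p (s := 3) Nat.prime_two (by decide) hz
  obtain ⟨b1, b2, b3⟩ := p (s := 2) Nat.prime_three (by decide) hy
  refine ⟨_, piPart_mem (π := {2}) hx, _, piPart_mem (π := {3}) hx, commute_piPart_piPart (Commute.refl _),
    isPiElt_piPart _ _, isPiElt_piPart _ _, fun k => a3 ?_, fun k => b3 ?_⟩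
  · rw [← piPart_mul_eq c a1 b2, ← e, ← map_piPart, f1, coe_piPart]
    exact k
  · rw [← piPart_mul_eq c.symm b1 a2, ← c.eq, ← e, ← map_piPart, f1, coe_piPart]
    exact k

theorem c3 : C3.{u} := by
  intro K _ _ A h x hx
  obtain ⟨a, -, b, -, c, a1, b1, a2, b2⟩ := l6 h (X := ⊤) fun _ _ => ⟨1, one_mem _, mem_top _⟩
  have h1 : orderOf x = 3 := ((Nat.dvd_prime Nat.prime_three).1 (hx ▸ orderOf_dvd_cent x)).resolve_left fun e => by
    rw [orderOf_eq_one_iff.1 e, cent_one, card_top] at hx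
    have := Nat.le_of_dvd Nat.card_pos ((relIndex_dvd_card A _).trans
      (card_subgroup_dvd_card (normalizer (A : Set K))))
    have := h.idx
    omega
  have h2 := l3 Nat.prime_three h1 (by rw [hx]; decide) b1 fun e => b2 (e ▸ one_mem _)
  refine a2 (a1.eq_one ((isPiElt_compl_singleton_iff Nat.prime_two).2 fun e => ?_) ▸ one_mem _)
  have := e.trans (orderOf_dvd_natCard _ (mem_cent.2 c))
  omega

theorem c6a : C6a.{u} := by
  intro K _ _ A h t u ht t2 u3 htu h6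
  obtain ⟨a, a0, b, b0, c, a1, b1, a2, b2⟩ := l6 h (X := cent(t)) fun n hn =>
    let ⟨b, hb, e⟩ := h.cov t ht n hn; ⟨b, hb, mem_cent.2 e⟩
  have h1 := l3' u3 htu h6 b1 (fun e => b2 (e ▸ one_mem _)) (mem_cent'.1 b0)
  have h2 : a ∈ cent(t) ⊓ cent(b) := ⟨a0, mem_cent.2 c⟩
  have h3 : orderOf a = 2 := by
    obtain ⟨k, e⟩ := (isPiElt_singleton_iff Nat.prime_two).1 a1
    have h4 := h1 ▸ orderOf_dvd_natCard _ h2
    have h5 : orderOf a ≠ 1 := fun e => a2 (orderOf_eq_one_iff.1 e ▸ one_mem _)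
    rw [e] at h4 h5 ⊢
    rcases k with _ | _ | k
    · exact (h5 rfl).elim
    · rfl
    · exact absurd ((pow_dvd_pow 2 (show 2 ≤ k + 1 + 1 by omega)).trans h4) (by decide)
  have := four_dvd_card h2 ⟨self_mem_cent t, mem_cent_comm.1 b0⟩ h3 t2 (fun e => a2 (e ▸ ht)) (mem_cent.1 a0)
  omega

end CL.AH
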