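import Cfsg.Agent.AH.Basic
import Cfsg.Agent.Grp.Primitive

/-! Groups with conjugacy classes of distinct sizes: centralizers of order 6, the outer case. -/

set_option autoImplicit false

open Cfsg Subgroup CL.Fgs CL.Grp

namespace CL.AH

universe u

theorem c6b (hs : SN.{u}) (hc : CP.{u}) : C6b.{u} := by
  intro K _ _ A hK P t u ht tA t2 u3 tu h6
  have tt : t * t = 1 := by rw [← sq, ← t2, pow_orderOf_eq_one]
  have tp : IsPGroup 2 (zpowers t) := .of_card (n := 1) (by rw [Nat.card_zpowers, t2]; rfl)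
  obtain ⟨R, hR, tR⟩ := exists_isSylowIn_ge tp (le_sup_right : zpowers t ≤ A ⊔ zpowers t)
  have hT : IsSylowIn 2 (R ⊓ A) A := hR.inf_of_normalized le_sup_left (sup_le le_normalizer (zpowers_le.2 ht))
  have tT : zpowers t ≤ normalizer ((R ⊓ A : Subgroup K) : Set K) :=
    le_normalizer_inf (tR.trans le_normalizer) (zpowers_le.2 ht)
  generalize R ⊓ A = T at hT tT
  have h2 : ∀ a ∈ A, a ∈ normalizer (T : Set K) → a ∈ T := fun a ha hn =>
    hs A inferInstance (fun x => let ⟨g, hg, e⟩ := P.real x x.2; isConj_iff.2 ⟨⟨g, hg⟩, Subtype.ext e⟩) hT.toSylow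
      (x := ⟨a, ha⟩) (mem_normalizer_iff.2 fun x => mem_normalizer_iff.1 hn x)
  have h3 : 3 ∣ Nat.card (normalizer (A : Set K) ⊓ normalizer (T : Set K) : Subgroup K) := by
    have e : normalizer (A : Set K) ⊓ normalizer (T : Set K) ⊔ A = normalizer (A : Set K) :=
      le_antisymm (sup_le inf_le_left le_normalizer) fun n hn => by
        obtain ⟨a, ha, e⟩ := hT.frattini le_rfl hn
        exact (mul_mem_cancel_left (mem_sup_right ha)).1 (mem_sup_left ⟨mul_mem (le_normalizer ha) hn, e⟩)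
    refine Dvd.dvd.trans ?_ (relIndex_dvd_card A _)
    rw [← relIndex_sup_of_le_normalizer inf_le_left, e]
    rcases P.idx with e | e | e <;> rw [e] <;> decide
  have : Fact (Nat.Prime 3) := ⟨Nat.prime_three⟩
  obtain ⟨⟨s, sA, sT⟩, s3⟩ := exists_prime_orderOf_dvd_card' 3 h3
  rw [← orderOf_coe] at s3
  simp only at s3
  have sC := hc K A T inferInstance P.real hT s sT (by rw [s3]; decide) fun a ha => by
    obtain ⟨b, hb, e⟩ := P.cov a ha s sA
    exact ⟨b⁻¹, inv_mem hb, by
      calc _ = b⁻¹ * (b * s * a) * s⁻¹ := by group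
        _ = _ := by rw [e.eq]; group⟩
  have h4 : s * t * s⁻¹ * t ∈ T := h2 _ (P.uniq _ (mul_mem (mul_mem sA ht) (inv_mem sA)) t ht
      (fun e => tA ((mem_normalizer_iff.1 sA t).2 e)) tA (by rw [conj_mul, tt]; simp) (tt ▸ one_mem A))
    (mul_mem (mul_mem (mul_mem sT (tT (mem_zpowers t))) (inv_mem sT)) (tT (mem_zpowers t)))
  have ts : Commute t s := by
    obtain ⟨τ, hτ, e⟩ : ∃ τ ∈ T, s * t = τ * t * s :=
      ⟨_, h4, by rw [mul_assoc _ t t, tt, mul_one, inv_mul_cancel_right]⟩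
    have e1 : s * τ = τ * s := (mem_centralizer_iff.1 sC τ hτ).symm
    have e2 : ∀ n : ℕ, s ^ n * t = τ ^ n * t * s ^ n := fun n => by
      induction n with
      | zero => simp
      | succ n ih =>
        rw [pow_succ' s, mul_assoc, ih, ← mul_assoc, ← mul_assoc, (Commute.pow_right e1 n).eq, mul_assoc _ s, e]
        group
    have e3 := e2 3
    rw [show s ^ 3 = 1 from s3 ▸ pow_orderOf_eq_one s, one_mul, mul_one, right_eq_mul] at e3
    obtain ⟨k, hk⟩ := hT.isPGroup ⟨τ, hτ⟩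
    have e4 := pow_gcd_eq_one.2 ⟨e3, (congrArg Subtype.val hk : τ ^ 2 ^ k = 1)⟩
    rw [Nat.Coprime.pow_right k (by decide), pow_one] at e4
    rw [e4, one_mul] at e
    exact e.symm
  have h5 := l3' u3 tu h6 (b := s) (fun q hq e => (Nat.prime_dvd_prime_iff_eq hq Nat.prime_three).1 (s3 ▸ e))
    (fun e => by simp [e] at s3) ts
  have h7 : ¬ 2 ∣ Nat.card T := fun e => inf_centralizer_ne_bot_of_isPGroup tp tT e (by
    by_contra h0
    obtain ⟨k, e⟩ := IsPGroup.iff_card.1 (hT.isPGroup.to_le (inf_le_left (b := centralizer (zpowers t : Set K))))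
    obtain ⟨⟨w, w1, w2⟩, o⟩ := exists_prime_orderOf_dvd_card' 2
      (e ▸ dvd_pow_self 2 fun k0 => h0 (card_eq_one.1 (by rw [e, k0, pow_zero])))
    rw [← orderOf_coe] at o
    have wt : t * w = w * t := mem_centralizer_iff.1 w2 t (mem_zpowers t)
    have := four_dvd_card (D := cent(t) ⊓ cent(s)) ⟨mem_centralizer_singleton_iff.2 rfl, mem_centralizer_singleton_iff.2 ts⟩
      ⟨mem_centralizer_singleton_iff.2 wt.symm, mem_centralizer_singleton_iff.2 (mem_centralizer_iff.1 sC w w1)⟩ t2 o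
      (fun e => tA (e ▸ hT.le w1)) wt
    rw [h5] at this
    omega)
  refine eq_bot_of_odd_of_real (Nat.not_even_iff_odd.1 fun e => ?_) P.real
  rw [← card_mul_relIndex hT.le, even_iff_two_dvd, Nat.prime_two.dvd_mul] at e
  exact e.elim h7 hT.not_dvd

end CL.AH
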