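import Cfsg.Agent.AH.Form
import Cfsg.Agent.Fgs.ClassFusion
import Cfsg.Agent.Grp.Coprime2
import Cfsg.Agent.Grp.MinNormal
import Cfsg.Agent.Grp.PGroupMaxClass

/-! Groups with conjugacy classes of distinct sizes, II: definitions and the list of steps. -/

set_option autoImplicit false

open Cfsg Subgroup CL.Fgs MulAction

namespace CL.AH

universe u

/-- rational group: generators of one cyclic subgroup are conjugate -/
def Rat (G : Type*) [Group G] : Prop := ∀ x y : G, zpowers x = zpowers y → IsConj x y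

/-- elements with centralizers of equal order are conjugate -/
def Ah (G : Type*) [Group G] : Prop :=
  ∀ x y : G, Nat.card cent(x) = Nat.card cent(y) → IsConj x y

/-- the action of `K = G / O_p(G)` on a minimal normal `p`-subgroup `V` -/
structure Act (K V : Type*) [Group K] [CommGroup V] [MulDistribMulAction K V] (p : ℕ) : Prop where
  prime : p.Prime
  five : 5 ≤ p
  pgrp : IsPGroup p V
  nt : Nontrivial V
  triv : ∀ (r : ℕ) (x : K), r.Prime → 5 ≤ r → IsPiElt {r} x → ∀ v : V, x • v = v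
  ah : ∀ (x : K) (v w : V), x • v = v → x • w = w →
    Nat.card ↥(cent(x) ⊓ stabilizer K v) = Nat.card ↥(cent(x) ⊓ stabilizer K w) →
    ∃ g : K, Commute g x ∧ g • v = w
  real : ∀ (x : K) (v : V), x • v = v → ∃ g : K, g • v = v ∧ g * x * g⁻¹ = x⁻¹
  fix : ∀ A : Subgroup K, Nat.card {v : V // ∀ a ∈ A, a • v = v} ≠ p

/-- what is used about a maximal vector stabilizer `A` and `N = N(A)` -/
structure Pk {K : Type*} [Group K] (A : Subgroup K) : Prop where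
  idx : A.relIndex (normalizer (A : Set K)) = 24 ∨ A.relIndex (normalizer (A : Set K)) = 48 ∨
    A.relIndex (normalizer (A : Set K)) = 288
  cov : ∀ a ∈ A, ∀ n ∈ normalizer (A : Set K), ∃ b ∈ A, Commute (b * n) a
  real : ∀ a ∈ A, ∃ g ∈ A, g * a * g⁻¹ = a⁻¹
  uniq : ∀ y ∈ normalizer (A : Set K), ∀ z ∈ normalizer (A : Set K), y ∉ A → z ∉ A →
    y * y ∈ A → z * z ∈ A → y * z ∈ A

/-- Sylow 2-subgroups of a solvable group of real elements are self-normalizing -/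
def SN : Prop := ∀ (X : Type u) [Group X] [Finite X], Group.IsSolvable X →
  (∀ x : X, IsConj x x⁻¹) → ∀ T : Sylow 2 X, normalizer ((T : Subgroup X) : Set X) ≤ T

/-- a class preserving element of odd order centralizes a normalized Sylow 2-subgroup -/
def CP : Prop := ∀ (X : Type u) [Group X] [Finite X] (A T : Subgroup X),
  Group.IsSolvable A → (∀ a ∈ A, ∃ g ∈ A, g * a * g⁻¹ = a⁻¹) → CL.Grp.IsSylowIn 2 T A →
  ∀ s ∈ normalizer (T : Set X), Odd (orderOf s) →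
  (∀ a ∈ A, ∃ b ∈ A, s * a * s⁻¹ = b * a * b⁻¹) → s ∈ centralizer (T : Set X)

/-- normal Sylow `p`-subgroups in solvable rational groups, `p ≥ 5` -/
def ThmN : Prop := ∀ (X : Type u) [Group X] [Finite X], Group.IsSolvable X → Rat X →
  ∀ p : ℕ, p.Prime → 5 ≤ p → ¬ p ∣ (pCore p X).index

def PSq : Prop := ∀ (X : Type u) [Group X] [Finite X], Rat X →
  ∀ p : ℕ, p.Prime → 5 ≤ p → ¬ p ∣ (pCore p X).index →
  ∀ x : X, p ∣ Nat.card cent(x) → p ^ 2 ∣ Nat.card cent(x)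

def Red : Prop := ∀ (G : Type u) [Group G] [Finite G], Group.IsSolvable G → Ah G →
  (∀ r : ℕ, r.Prime → 5 ≤ r → ¬ r ∣ (pCore r G).index) →
  ∀ p : ℕ, p.Prime → 5 ≤ p → p ∣ Nat.card G →
  ∃ (K V : Type u) (_ : Group K) (_ : Finite K) (_ : CommGroup V) (_ : Finite V)
    (_ : MulDistribMulAction K V), Group.IsSolvable K ∧ Rat K ∧ Act K V p ∧
    ∀ x : G, ¬ p ∣ Nat.card cent(x) → ∃ y : K, Nat.card cent(y) = Nat.card cent(x)

def Str : Prop := ∀ (K V : Type u) [Group K] [Finite K] [CommGroup V] [Finite V]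
  [MulDistribMulAction K V] (p : ℕ), Act K V p → (p = 5 ∨ p = 7 ∨ p = 17) ∧
    ∀ t : K, t * t = 1 → ∃ A : Subgroup K, Pk A ∧ t ∈ normalizer (A : Set K)

/-- an element with centralizer of order 4 in a rational group -/
def S8 : Prop := ∀ (K : Type u) [Group K] [Finite K], Rat K → ∀ x : K, Nat.card cent(x) = 4 →
  ¬ 16 ∣ Nat.card K

def Bot : Prop := ∀ (K : Type u) [Group K] [Finite K], Rat K → ¬ Pk (⊥ : Subgroup K)

def C3 : Prop := ∀ (K : Type u) [Group K] [Finite K] (A : Subgroup K), Pk A →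
  ∀ x : K, Nat.card cent(x) ≠ 3

def C6a : Prop := ∀ (K : Type u) [Group K] [Finite K] (A : Subgroup K), Pk A →
  ∀ t u : K, t ∈ A → orderOf t = 2 → orderOf u = 3 → Commute t u →
  Nat.card ↥(cent(t) ⊓ cent(u)) ≠ 6

def C6b : Prop := ∀ (K : Type u) [Group K] [Finite K] (A : Subgroup K), Group.IsSolvable K →
  Pk A → ∀ t u : K, t ∈ normalizer (A : Set K) → t ∉ A → orderOf t = 2 → orderOf u = 3 →
  Commute t u → Nat.card ↥(cent(t) ⊓ cent(u)) = 6 → A = ⊥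

def C2 : Prop := ∀ (G : Type u) [Group G] [Finite G], Ah G → ∀ x : G, Nat.card cent(x) = 2 →
  Nonempty (G ≃* Equiv.Perm (Fin 3))

def Sum1 : Prop := ∀ T : Finset ℕ, (∀ c ∈ T, c ≠ 0 ∧ c ≠ 1 ∧ c ≠ 2 ∧ c ≠ 3 ∧ c ≠ 4 ∧ c ≠ 6 ∧
    ∀ r : ℕ, r.Prime → r ∣ c → r = 2 ∨ r = 3 ∨ ((r = 5 ∨ r = 7 ∨ r = 17) ∧ r ^ 2 ∣ c)) →
  ∑ c ∈ T, (1 : ℚ) / c < 1

def Sum2 : Prop := ∀ T : Finset ℕ, (∀ c ∈ T, 5 ≤ c ∧ ∀ r : ℕ, r.Prime → r ∣ c → r = 2 ∨ r = 3) →
  ∑ c ∈ T, (1 : ℚ) / c < 1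

def Sum3 : Prop := ∀ (T : Finset ℕ) (n : ℕ), 6 ≤ n →
  (∀ c ∈ T, c = 3 ∨ c = n ∨ (4 ≤ c ∧ ∀ r : ℕ, r.Prime → r ∣ c → r = 2)) →
  ∑ c ∈ T, (1 : ℚ) / c < 1

def Sum4 : Prop := ∀ T : Finset ℕ,
  (∀ c ∈ T, 4 ≤ c ∧ ¬ 16 ∣ c ∧ ∀ r : ℕ, r.Prime → r ∣ c → r = 2 ∨ r = 3) →
  ∑ c ∈ T, (1 : ℚ) / c < 1

end CL.AH
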