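import Cfsg.Agent.AH.ThmN

/-! Groups with conjugacy classes of distinct sizes: the assembly. -/

set_option autoImplicit false
set_option linter.unusedSectionVars false

open Cfsg Subgroup CL.Fgs CL.Grp

namespace CL.AH

universe u

variable {G : Type u} [Group G] [Finite G]

/-- the class equation -/
theorem Ah.exists_sum (h : Ah G) : ∃ T : Finset ℕ, (∀ c ∈ T, ∃ x : G, Nat.card cent(x) = c) ∧
    ∑ c ∈ T, (1 : ℚ) / c = 1 := by
  classical
  haveI := Fintype.ofFinite G
  refine ⟨Finset.univ.image fun x : G => Nat.card cent(x), fun c hc => by simpa using hc, ?_⟩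
  have h0 : (Nat.card G : ℚ) ≠ 0 := Nat.cast_ne_zero.2 Nat.card_pos.ne'
  refine mul_left_cancel₀ h0 ?_
  rw [mul_one, Finset.mul_sum]
  conv_rhs => rw [Nat.card_eq_fintype_card, ← Finset.card_univ, Finset.card_eq_sum_card_image
    (fun x : G => Nat.card cent(x)), Nat.cast_sum]
  refine Finset.sum_congr rfl fun c hc => ?_
  obtain ⟨x, -, rfl⟩ := Finset.mem_image.1 hc
  rw [Finset.filter_congr (q := IsConj x) fun y _ => ⟨fun e => h _ _ e.symm, fun e =>
    (card_cent_eq_of_isConj e).symm⟩, card_filter_isConj, ← card_cent_mul_cs x, Nat.cast_mul]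
  have : (Nat.card cent(x) : ℚ) ≠ 0 := Nat.cast_ne_zero.2 Nat.card_pos.ne'
  field_simp

theorem Pk.dvd {A : Subgroup G} (h : Pk A) : Nat.card A * 24 ∣ Nat.card G := by
  refine dvd_trans ?_ (card_subgroup_dvd_card (normalizer (A : Set G)))
  rw [← card_mul_relIndex (le_normalizer (H := A))]
  rcases h.idx with e | e | e <;> rw [e] <;> exact Nat.mul_dvd_mul_left _ (by norm_num)

theorem exists_pair {y : G} (hy : Nat.card cent(y) = 6) (h1 : y ≠ 1) : ∃ t u : G, orderOf t = 2 ∧
    orderOf u = 3 ∧ Commute t u ∧ Nat.card ↥(cent(t) ⊓ cent(u)) = 6 := by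
  haveI := Fact.mk Nat.prime_three
  obtain ⟨⟨t, ht⟩, ht2⟩ := exists_prime_orderOf_dvd_card' (G := cent(y)) 2 (by rw [hy]; norm_num)
  obtain ⟨⟨u, hu⟩, hu3⟩ := exists_prime_orderOf_dvd_card' (G := cent(y)) 3 (by rw [hy]; norm_num)
  replace ht2 : orderOf t = 2 := (orderOf_coe _).trans ht2
  replace hu3 : orderOf u = 3 := (orderOf_coe _).trans hu3
  have key : ∀ D : Subgroup G, D ≤ cent(y) → 2 ∣ Nat.card D → 3 ∣ Nat.card D → D = cent(y) :=
    fun D h a b => eq_of_le_of_card_ge h (hy ▸ Nat.le_of_dvd Nat.card_pos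
      (Nat.Coprime.mul_dvd_of_dvd_of_dvd (by norm_num) a b))
  have hc : Commute t u := by
    have h6 : orderOf y ∣ 6 := hy ▸ orderOf_dvd_cent y
    by_cases h2 : 2 ∣ orderOf y
    · exact mem_cent'.1 ((key (cent(t) ⊓ cent(y)) inf_le_right
        (ht2 ▸ orderOf_dvd_natCard _ ⟨self_mem_cent t, ht⟩) (by
          by_cases h3 : 3 ∣ orderOf y
          · exact h3.trans (orderOf_dvd_natCard _ ⟨mem_cent_comm.1 ht, self_mem_cent y⟩)
          · have : orderOf y = 2 := by
              have := Nat.le_of_dvd (by norm_num) h6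
              interval_cases orderOf y <;> omega
            obtain rfl : t = y := by
              by_contra hne
              have := four_dvd_card ht (self_mem_cent y) ht2 this hne (mem_cent.1 ht)
              omega
            rw [inf_idem, hy]; norm_num)).ge hu).1
    · have h3 : orderOf y = 3 := by
        have := Nat.le_of_dvd (by norm_num) h6
        have := mt orderOf_eq_one_iff.1 h1
        interval_cases orderOf y <;> omega
      have h4 := l3 (G := cent(y)) Nat.prime_three (u := ⟨y, self_mem_cent y⟩) (b := ⟨u, hu⟩)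
        ((orderOf_coe _).symm.trans h3) (by rw [card_cent_coe, inf_idem, hy]; norm_num)
        (isPiElt_coe_iff.1 ((isPiElt_singleton_iff Nat.prime_three).2 ⟨1, hu3⟩)) fun e => by
          rw [show u = 1 from congrArg Subtype.val e, orderOf_one] at hu3; omega
      rw [card_cent_coe, card_cent_coe, inf_idem, hy] at h4
      exact mem_cent.1 ((key _ inf_le_right (by rw [h4]; norm_num) (by rw [h4]; norm_num)).ge ht).1
  have h5 := key (zpowers (t * u)) (zpowers_le.2 (mul_mem ht hu)) ?_ ?_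
  · refine ⟨t, u, ht2, hu3, hc, ?_⟩
    rw [← cent_mul_of_coprime hc (by rw [ht2, hu3]; norm_num), ← hy]
    refine congrArg (fun D : Subgroup G => Nat.card D) (le_antisymm
      (cent_le_of_mem_zpowers (h5 ▸ self_mem_cent y)) (h5 ▸ zpowers_le_cent _))
  all_goals
    rw [Nat.card_zpowers, hc.orderOf_mul_eq_mul_orderOf_of_coprime (by rw [ht2, hu3]; norm_num),
      ht2, hu3]
    norm_num

theorem no346 (h8 : S8.{u}) (hb : Bot.{u}) (h3 : C3.{u}) (h6a : C6a.{u}) (h6b : C6b.{u})
    (hs : Group.IsSolvable G) (hr : Rat G)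
    (h : ∀ t : G, t * t = 1 → ∃ A : Subgroup G, Pk A ∧ t ∈ normalizer (A : Set G)) (y : G) :
    Nat.card cent(y) ≠ 3 ∧ Nat.card cent(y) ≠ 4 ∧ Nat.card cent(y) ≠ 6 := by
  obtain ⟨A, hA, -⟩ := h 1 (mul_one 1)
  refine ⟨h3 G A hA y, fun e => hb G hr ?_, fun e => ?_⟩
  · refine eq_bot_of_odd_of_real (Nat.not_even_iff_odd.1 fun ⟨k, hk⟩ => h8 G hr y e
      (dvd_trans ⟨k * 3, by rw [hk]; ring⟩ hA.dvd)) hA.real ▸ hA
  · obtain ⟨t, u, ht, hu, hc, h6⟩ := exists_pair e (by
      rintro rfl
      have := Nat.le_of_dvd Nat.card_pos ((dvd_mul_left _ _).trans hA.dvd)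
      rw [cent_one, card_top] at e
      omega)
    obtain ⟨B, hB, htB⟩ := h t (by rw [← sq, ← ht, pow_orderOf_eq_one])
    by_cases h1 : t ∈ B
    · exact h6a G B hB t u h1 ht hu hc h6
    · exact hb G hr (h6b G B hs hB t u htB h1 ht hu hc h6 ▸ hB)

theorem final (hP : PSq.{u}) (hR : Red.{u}) (hS : Str.{u}) (h8 : S8.{u}) (hb : Bot.{u})
    (h3 : C3.{u}) (h6a : C6a.{u}) (h6b : C6b.{u}) (h2 : C2.{u}) (s1 : Sum1) (s2 : Sum2)
    (s3 : Sum3) (s4 : Sum4) [Nontrivial G] (hG : Group.IsSolvable G)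
    (h : Function.Injective fun C : ConjClasses G => Nat.card C.carrier) :
    Nonempty (G ≃* Equiv.Perm (Fin 3)) := by
  have hA : Ah G := fun x y e => ConjClasses.mk_eq_mk_iff_isConj.1 (h (by
    change Nat.card (ConjClasses.mk x).carrier = Nat.card (ConjClasses.mk y).carrier
    rw [card_carrier_mk, card_carrier_mk]
    exact Nat.eq_of_mul_eq_mul_left Nat.card_pos
      ((card_cent_mul_cs x).trans (e ▸ (card_cent_mul_cs y).symm))))
  by_contra hn
  have c2 : ∀ x : G, Nat.card cent(x) ≠ 2 := fun x e => hn (h2 G hA x e)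
  have c1 : ∀ x : G, Nat.card cent(x) ≠ 1 := fun x e => by
    obtain rfl : x = 1 := (eq_bot_iff_forall _).1 (card_eq_one.1 e) x (self_mem_cent x)
    rw [cent_one, card_top] at e
    exact Finite.one_lt_card.ne' e
  have c0 : ∀ x : G, Nat.card cent(x) ≠ 0 := fun x => Nat.card_pos.ne'
  obtain ⟨T, hT, hs⟩ := hA.exists_sum
  refine hs.not_lt ?_
  have hN := thmN G hG hA.rat
  have small : ∀ r : ℕ, r.Prime → ¬ 5 ≤ r → r = 2 ∨ r = 3 := fun r hr h5 => by
    have := hr.two_le
    have : r ≠ 4 := by rintro rfl; exact absurd hr (by norm_num)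
    omega
  by_cases hp : ∃ p : ℕ, p.Prime ∧ 5 ≤ p ∧ p ∣ Nat.card G
  · obtain ⟨p, hp, h5, hd⟩ := hp
    obtain ⟨K, V, _, _, _, _, _, hK, hr, ha, ht⟩ := hR G hG hA hN p hp h5 hd
    have h346 := no346 h8 hb h3 h6a h6b hK hr (hS K V p ha).2
    refine s1 T fun c hc => ?_
    obtain ⟨x, rfl⟩ := hT c hc
    have key : ∀ n : ℕ, n ∣ 12 → Nat.card cent(x) = n → n ≠ 3 ∧ n ≠ 4 ∧ n ≠ 6 := fun n hn e => by
      obtain ⟨y, hy⟩ := ht x fun h1 => by
        have h2 : p ∣ 2 ^ 2 * 3 := h1.trans (e ▸ hn)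
        rcases (Nat.Prime.dvd_mul hp).1 h2 with h3 | h3
        · have := Nat.le_of_dvd two_pos (hp.dvd_of_dvd_pow h3); omega
        · have := Nat.le_of_dvd three_pos h3; omega
      exact e ▸ hy ▸ h346 y
    refine ⟨c0 x, c1 x, c2 x, fun e => (key 3 (by norm_num) e).1 rfl,
      fun e => (key 4 (by norm_num) e).2.1 rfl, fun e => (key 6 (by norm_num) e).2.2 rfl,
      fun r hr hd => ?_⟩
    by_cases h5 : 5 ≤ r
    · obtain ⟨K, V, _, _, _, _, _, -, -, ha, -⟩ :=
        hR G hG hA hN r hr h5 (hd.trans (card_subgroup_dvd_card _))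
      exact Or.inr (Or.inr ⟨(hS K V r ha).1, hP G hA.rat r hr h5 (hN r hr h5) x hd⟩)
    · exact (small r hr h5).imp_right Or.inl
  · have h23 : ∀ (x : G) (r : ℕ), r.Prime → r ∣ Nat.card cent(x) → r = 2 ∨ r = 3 :=
      fun x r hr hd => small r hr fun h5 => hp ⟨r, hr, h5, hd.trans (card_subgroup_dvd_card _)⟩
    by_cases c3 : ∃ u : G, Nat.card cent(u) = 3
    · obtain ⟨u, hu⟩ := c3
      have hG3 : Nat.card G ≠ 3 := fun e => by
        obtain ⟨y, hy⟩ := exists_ne (1 : G)
        refine hy (isConj_one_right.1 (hA 1 y ?_))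
        have h1 := card_subgroup_dvd_card cent(y)
        rw [e] at h1
        rw [cent_one, card_top, e, ((Nat.dvd_prime Nat.prime_three).1 h1).resolve_left (c1 y)]
      have hu3 : orderOf u = 3 := ((Nat.dvd_prime Nat.prime_three).1
        (hu ▸ orderOf_dvd_cent u)).resolve_left fun e => hG3 (by
          rwa [orderOf_eq_one_iff.1 e, cent_one, card_top] at hu)
      refine s3 T (Nat.card G) ?_ fun c hc => ?_
      · obtain ⟨k, hk⟩ : 3 ∣ Nat.card G := hu ▸ card_subgroup_dvd_card _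
        have := Nat.card_pos (α := G)
        omega
      obtain ⟨x, rfl⟩ := hT c hc
      by_cases h3 : 3 ∣ Nat.card cent(x)
      · haveI := Fact.mk Nat.prime_three
        obtain ⟨⟨b, hb⟩, hb3⟩ := exists_prime_orderOf_dvd_card' (G := cent(x)) 3 h3
        replace hb3 : orderOf b = 3 := (orderOf_coe _).trans hb3
        have hu9 : ¬ 3 ^ 2 ∣ Nat.card cent(u) := by rw [hu]; norm_num
        have h4 := l3 Nat.prime_three hu3 hu9
          ((isPiElt_singleton_iff Nat.prime_three).2 ⟨1, hb3⟩) fun e => by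
            rw [e, orderOf_one] at hb3; omega
        by_cases hx : x = 1
        · exact Or.inr (Or.inl (by rw [hx, cent_one, card_top]))
        · refine Or.inl ((l3 Nat.prime_three hu3 hu9 (isPiElt_of_mem (H := cent(b)) ?_
            (mem_cent_comm.1 hb)) hx).trans hu)
          rw [h4, hu]
          exact isPiNum_singleton_pow Nat.prime_three 1
      · refine Or.inr (Or.inr ⟨?_, fun r hr hd => (h23 x r hr hd).resolve_right ?_⟩)
        · have := c0 x; have := c1 x; have := c2 x; omega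
        · rintro rfl; exact h3 hd
    · push Not at c3
      by_cases c4 : ∃ u : G, Nat.card cent(u) = 4
      · obtain ⟨u, hu⟩ := c4
        refine s4 T fun c hc => ?_
        obtain ⟨x, rfl⟩ := hT c hc
        refine ⟨?_, fun e => h8 G hA.rat u hu (e.trans (card_subgroup_dvd_card _)), h23 x⟩
        have := c0 x; have := c1 x; have := c2 x; have := c3 x; omega
      · push Not at c4
        refine s2 T fun c hc => ?_
        obtain ⟨x, rfl⟩ := hT c hc
        refine ⟨?_, h23 x⟩
        have := c0 x; have := c1 x; have := c2 x; have := c3 x; have := c4 x; omega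

end CL.AH
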