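import Cfsg.Agent.Perm.PT1

/-! Groups with conjugacy classes of distinct sizes, I: an irreducible module over a prime field
for a group all of whose elements are real carries an invariant bilinear form. -/

set_option autoImplicit false
set_option linter.unusedSectionVars false

open CL.Perm CL.PT

namespace CL.AH

theorem exists_form_lin {k X V : Type*} [Field k] [Finite k] [Group X] [AddCommGroup V]
    [Module k V] [Finite V] [Nontrivial V] (ρ : Representation k X V)
    (hirr : ∀ W : Submodule k V, (∀ g, ∀ v ∈ W, ρ g v ∈ W) → W = ⊥ ∨ W = ⊤)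
    (hr : ∀ x : X, IsConj x x⁻¹) :
    ∃ b : V →ₗ[k] V →ₗ[k] k, b ≠ 0 ∧ ∀ g x y, b (ρ g x) (ρ g y) = b x y := by
  classical
  haveI : Module.Finite k V := Module.Finite.of_finite
  let T := ρ.asAlgebraHom
  let A : Subalgebra k (Module.End k V) := T.range
  have hρ : ∀ g, ρ g ∈ A := fun g => ⟨MonoidAlgebra.single g 1, by simp [T]⟩
  haveI : IsSimpleModule A V := by
    refine isSimpleModule_iff_toSpanSingleton_surjective.2 ⟨inferInstance, fun v hv => ?_⟩
    rcases hirr ((LinearMap.range (LinearMap.toSpanSingleton A V v)).restrictScalars k) (by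
      rintro g _ ⟨a, rfl⟩
      exact ⟨⟨ρ g, hρ g⟩ * a, rfl⟩) with h | h
    · exact absurd (h ▸ ⟨1, one_smul _ _⟩ : v ∈ (⊥ : Submodule k V)) hv
    · exact fun w => (h ▸ Submodule.mem_top : w ∈ (LinearMap.range
        (LinearMap.toSpanSingleton A V v)).restrictScalars k)
  let F := Module.End A V
  haveI : Finite F := Finite.of_injective _ (DFunLike.coe_injective (F := F))
  letI : Field F := littleWedderburn F
  haveI : Module.Finite k F := Module.Finite.of_finite
  obtain ⟨c, hc⟩ : ∃ c : F, Algebra.trace k F c ≠ 0 := by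
    by_contra h
    push Not at h
    exact Algebra.trace_ne_zero k F (LinearMap.ext h)
  have dens : ∀ f : V →ₗ[F] V, ∃ r, T r = f.restrictScalars k := fun f => by
    haveI := Fintype.ofFinite V
    obtain ⟨⟨_, r, rfl⟩, h⟩ := jacobson_density (R := A) f Finset.univ
    exact ⟨r, LinearMap.ext fun v => (h v (Finset.mem_univ v)).symm⟩
  have nd : ∀ a ∈ A, (∀ r, LinearMap.trace k V (a * T r) = 0) → a = 0 := by
    intro a ha h
    refine LinearMap.ext fun e => ?_
    by_contra he
    obtain ⟨φ, hφ⟩ := Module.Projective.exists_dual_eq_one F he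
    obtain ⟨r, hr⟩ := dens ((LinearMap.toSpanSingleton F V (c • e)).comp φ)
    have h1 := h r
    rw [hr, show a * ((LinearMap.toSpanSingleton F V (c • e)).comp φ).restrictScalars k =
      (a.comp ((LinearMap.toSpanSingleton F V (c • e)).restrictScalars k)).comp
        (φ.restrictScalars k) from rfl, LinearMap.trace_comp_comm'] at h1
    refine hc (Eq.trans ?_ h1)
    rw [Algebra.trace_apply]
    congr 1
    refine LinearMap.ext fun t => ?_
    have h2 : a (t • c • e) = (t * c) • a e := by
      rw [← mul_smul]
      exact ((t * c).map_smul (⟨a, ha⟩ : A) e).symm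
    change c * t = φ (a (t • c • e))
    rw [h2, map_smul, hφ, smul_eq_mul, mul_one, mul_comm]
  let T' : MonoidAlgebra k X →ₗ[k] Module.End k V :=
    T.toLinearMap.comp (MonoidAlgebra.mapDomainLinearMap k k (fun g : X => g⁻¹))
  have hT' : ∀ g a, T' (MonoidAlgebra.single g a) = a • ρ g⁻¹ := fun g a => by
    simp [T', T]
  have hT : ∀ g a, T (MonoidAlgebra.single g a) = a • ρ g := fun g a => by simp [T]
  have htr : ∀ g, LinearMap.trace k V (ρ g⁻¹) = LinearMap.trace k V (ρ g) := fun g => by
    obtain ⟨u, hu⟩ := isConj_iff.1 (hr g)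
    rw [← hu, map_mul, LinearMap.trace_mul_comm, ← map_mul, inv_mul_cancel_left]
  have h1 : ∀ r s, LinearMap.trace k V (T' r * T s) = LinearMap.trace k V (T r * T' s) := by
    intro r s
    induction r using MonoidAlgebra.induction_linear with
    | zero => simp
    | add a b ha hb => simp only [map_add, add_mul, ha, hb]
    | single g a =>
      induction s using MonoidAlgebra.induction_linear with
      | zero => simp
      | add a b ha hb => simp only [map_add, mul_add, ha, hb]
      | single h d =>
        simp only [hT, hT', smul_mul_smul_comm, map_smul, ← map_mul]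
        rw [← htr, mul_inv_rev, inv_inv, map_mul, LinearMap.trace_mul_comm, ← map_mul]
  have h2 : ∀ r, T r = 0 → T' r = 0 := fun r h =>
    nd _ ⟨_, rfl⟩ fun s => by rw [h1, h, zero_mul, map_zero]
  have h3 : ∀ r, T' r = 0 → T r = 0 := fun r h => nd _ ⟨_, rfl⟩ fun s => by
    obtain ⟨s', rfl⟩ : ∃ s', MonoidAlgebra.mapDomainLinearMap k k (fun g : X => g⁻¹) s' = s :=
      ⟨MonoidAlgebra.mapDomainLinearMap k k (fun g : X => g⁻¹) s, by
        induction s using MonoidAlgebra.induction_linear with
        | zero => simp
        | add a b ha hb => simp only [map_add, ha, hb]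
        | single h d => simp⟩
    exact (h1 r s').symm.trans (by rw [h, zero_mul, map_zero])
  have h4 : ∀ g r, T' (MonoidAlgebra.single g 1 * r) = T' r * ρ g⁻¹ := by
    intro g r
    induction r using MonoidAlgebra.induction_linear with
    | zero => simp
    | add a b ha hb => simp only [mul_add, map_add, add_mul, ha, hb]
    | single h d => rw [MonoidAlgebra.single_mul_single, hT', hT', one_mul, mul_inv_rev, map_mul,
        smul_mul_assoc]
  obtain ⟨e, he⟩ := exists_ne (0 : V)
  obtain ⟨φ, hφ⟩ := Module.Projective.exists_dual_eq_one F he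
  choose s hs using fun x : V => dens ((LinearMap.toSpanSingleton F V x).comp φ)
  have hs' : ∀ x v, T (s x) v = φ v • x := fun x v => by rw [hs]; rfl
  have h5 : ∀ r r', T r = T r' → T' r = T' r' := fun r r' h =>
    sub_eq_zero.1 (by rw [← map_sub]; exact h2 _ (by rw [map_sub, h, sub_self]))
  let τ : V →ₗ[k] Module.End k V :=
    { toFun := fun x => T' (s x)
      map_add' := fun x y => by
        rw [← map_add]
        exact h5 _ _ (LinearMap.ext fun v => by
          rw [map_add, LinearMap.add_apply, hs', hs', hs', smul_add])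
      map_smul' := fun a x => by
        rw [RingHom.id_apply, ← map_smul]
        exact h5 _ _ (LinearMap.ext fun v => by
          rw [map_smul, LinearMap.smul_apply, hs', hs', smul_comm]) }
  have h6 : ∀ g x, τ (ρ g x) = τ x * ρ g⁻¹ := fun g x => by
    refine (h5 _ _ (LinearMap.ext fun v => ?_)).trans (h4 g (s x))
    rw [map_mul, hT, one_smul, Module.End.mul_apply, hs', hs']
    exact (φ v).map_smul (⟨ρ g, hρ g⟩ : A) x
  have h7 : τ e ≠ 0 := fun h => he (by
    have := LinearMap.congr_fun (h3 _ h) e
    rwa [hs', hφ, one_smul] at this)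
  obtain ⟨y, hy⟩ : ∃ y, τ e y ≠ 0 := by
    by_contra h
    push Not at h
    exact h7 (LinearMap.ext h)
  obtain ⟨ψ, hψ⟩ := Module.Projective.exists_dual_ne_zero k hy
  refine ⟨τ.compr₂ ψ, fun h => hψ (LinearMap.congr_fun₂ h e y), fun g x z => ?_⟩
  rw [LinearMap.compr₂_apply, LinearMap.compr₂_apply, h6, Module.End.mul_apply,
    ← Module.End.mul_apply (ρ g⁻¹), ← map_mul, inv_mul_cancel, map_one, Module.End.one_apply]

end CL.AH
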