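import Cfsg.Agent.AH.Basic

/-! Groups with conjugacy classes of distinct sizes: `p ∣ |C(x)|` implies `p ^ 2 ∣ |C(x)|`. -/

set_option autoImplicit false

open Cfsg Subgroup CL.Fgs CL.Grp

namespace CL.AH

universe u

theorem card_fix_ne' {p : ℕ} (hp : p.Prime) (h5 : 5 ≤ p) (X : Type u) [Group X] [Finite X] :
    Rat X → ∀ N B : Subgroup X, N.Normal → IsPGroup p N → ¬ p ∣ Nat.card B →
      Nat.card ↥(N ⊓ centralizer (B : Set X)) ≠ p := by
  refine induction_on_card (P := fun X _ _ => Rat X → ∀ N B : Subgroup X, N.Normal →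
    IsPGroup p N → ¬ p ∣ Nat.card B → Nat.card ↥(N ⊓ centralizer (B : Set X)) ≠ p)
    (fun X _ _ ih h N B _ hN hB => ?_) X
  haveI := Fact.mk hp
  by_cases h0 : N = ⊥
  · rw [h0, bot_inf_eq, card_bot]
    exact hp.one_lt.ne
  obtain ⟨V, hV, hle⟩ := exists_isMinNormal_le N h0
  haveI := hV.normal
  have hVp := hN.to_le hle
  haveI := hVp.isNilpotent
  obtain ⟨n, hn⟩ := IsPGroup.iff_card.1 hVp
  have h1 := ih (X ⧸ V) (card_quotient_lt hV.ne_bot) (h.quotient V) (N.map (QuotientGroup.mk' V))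
    (B.map (QuotientGroup.mk' V)) inferInstance (hN.map _) fun e => hB (e.trans (card_map_dvd _ _))
  rw [centralizer_map_mk'_eq (hn ▸ ((Nat.Prime.coprime_iff_not_dvd hp).2 hB).symm.pow_right n)
    (Or.inr inferInstance)] at h1
  have h2 : (N ⊓ centralizer (B : Set X)).map (QuotientGroup.mk' V) =
      N.map (QuotientGroup.mk' V) ⊓ (centralizer (B : Set X)).map (QuotientGroup.mk' V) := by
    refine le_antisymm (map_inf_le _ _ _) ?_
    rintro _ ⟨⟨a, ha, e⟩, c, hc, rfl⟩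
    exact ⟨c, ⟨(mul_mem_cancel_left (inv_mem ha)).1 (hle (QuotientGroup.eq.1 e)), hc⟩, rfl⟩
  rw [card_eq_card_inf_ker_mul_card_map (QuotientGroup.mk' V), QuotientGroup.ker_mk', h2,
    ← inf_assoc, inf_eq_left.2 hle]
  intro e
  rcases (Nat.dvd_prime hp).1 (Dvd.intro _ e) with h3 | h3
  · rw [h3, one_mul] at e
    exact h1 e
  · exact card_fix_ne h hV hp h5 hVp hB h3

theorem psq : PSq.{u} := by
  intro X _ _ h p hp h5 hi x hd
  haveI := Fact.mk hp
  have hP : ∀ y : X, IsPiElt {p} y → y ∈ pCore p X := fun y hy =>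
    hy.mem_of_index ((isPiNum_compl_singleton_iff hp).2 hi)
  let D := pCore p X ⊓ cent(piPart ({p}ᶜ : Set ℕ) x)
  have hD : IsPGroup p D := (pCore_isPGroup p X).to_inf_left
  have h1 : Nat.card D ≠ p := by
    have := card_fix_ne' hp h5 X h (pCore p X) (zpowers (piPart ({p}ᶜ : Set ℕ) x)) inferInstance
      (pCore_isPGroup p X) (by
        rw [Nat.card_zpowers]
        exact (isPiElt_compl_singleton_iff hp).1 (isPiElt_piPart _ x))
    rwa [centralizer_zpowers] at this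
  obtain ⟨⟨b, hb⟩, hbp⟩ := exists_prime_orderOf_dvd_card' (G := cent(x)) p hd
  replace hbp : orderOf b = p := (orderOf_coe _).trans hbp
  have hbD : b ∈ D := ⟨hP b ((isPiElt_singleton_iff hp).2 ⟨1, by rw [hbp, pow_one]⟩),
    cent_le_piPart _ x hb⟩
  let a : D := ⟨piPart {p} x, hP _ (isPiElt_piPart _ x),
    mem_cent.2 (commute_piPart_piPart (Commute.refl x))⟩
  refine dvd_trans (?_ : p ^ 2 ∣ Nat.card cent(a)) (card_cent_coe a ▸ card_dvd_of_le
    (cent_eq_inf_piPart {p} x ▸ inf_le_inf_left _ inf_le_right))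
  obtain ⟨n, hn⟩ := IsPGroup.iff_card.1 hD
  have h2 : p ∣ Nat.card D := hbp ▸ orderOf_dvd_natCard D hbD
  by_cases ha : a ∈ center D
  · rw [cent_eq_top_iff.2 ha, card_top, hn]
    refine pow_dvd_pow p ?_
    rw [hn] at h1 h2
    rcases n with _ | _ | n
    · exact absurd (Nat.dvd_one.1 h2) hp.one_lt.ne'
    · exact absurd (pow_one p) h1
    · omega
  · haveI : Nontrivial D := ⟨⟨a, 1, fun e => ha (e ▸ one_mem _)⟩⟩
    exact (sq p ▸ Nat.mul_dvd_mul_left p (dvd_card_center hD)).trans (mul_card_dvd_card_of_lt hD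
      (lt_of_le_of_ne (center_le_cent a) fun e => ha (e ▸ self_mem_cent a)))

end CL.AH
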