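import Cfsg.Agent.AH.Basic

/-! Groups with conjugacy classes of distinct sizes: the reduction to an action on a minimal normal subgroup. -/

set_option autoImplicit false
set_option linter.style.haveILetI false

open Cfsg Subgroup CL.Fgs CL.Grp

namespace CL.AH

universe u

theorem red : Red.{u} := by
  intro G _ _ hs hA hr p hp h5 hd
  haveI := Fact.mk hp
  have hR := hA.rat
  have hP := pCore_isPGroup p G
  have hi := hr p hp h5
  obtain ⟨V, hV, hVP⟩ := exists_isMinNormal_le (pCore p G) fun e => hi (by rwa [e, index_bot])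
  haveI := hV.normal
  have hVp : IsPGroup p V := hP.to_le hVP
  have he := hV.isElementaryAbelian_of_isPGroup hVp
  obtain ⟨n, hn⟩ := IsPGroup.iff_card.1 hP
  obtain ⟨H, hH⟩ := exists_right_complement'_of_coprime (N := pCore p G)
    (hn ▸ (hp.coprime_iff_not_dvd.2 hi).pow_left n)
  have hHp : ¬ p ∣ Nat.card H := hH.symm.index_eq_card ▸ hi
  let f : G →* H := hH.symm.QuotientMulEquiv.toMonoidHom.comp (QuotientGroup.mk' _)
  have f1 : ∀ h : H, f h = h := fun h => hH.symm.QuotientMulEquiv.apply_symm_apply h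
  have f2 : f.ker = pCore p G := by
    rw [← MonoidHom.comap_ker, (MonoidHom.ker_eq_bot_iff _).2 hH.symm.QuotientMulEquiv.injective,
      MonoidHom.comap_bot, QuotientGroup.ker_mk']
  have hC : ∀ r : ℕ, r.Prime → ∀ a ∈ pCore r G, ∀ v ∈ V, a * v * a⁻¹ = v := fun r hr a ha v hv =>
    haveI := Fact.mk hr
    mul_inv_eq_iff_eq_mul.2 (hV.pCore_le_centralizer r ha v hv).symm
  have f3 : ∀ g : G, ∀ v ∈ V, f g * v * (f g : G)⁻¹ = g * v * g⁻¹ := fun g v hv => by
    rw [← hC p hp (g * (f g : G)⁻¹) (f2 ▸ (by rw [map_mul, map_inv, f1, mul_inv_cancel] : f (g * (f g : G)⁻¹) = 1)) _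
      (hV.normal.conj_mem v hv (f g))]
    group
  letI : CommGroup V := { (inferInstance : Group V) with mul_comm := he.1.1.1 }
  letI : MulDistribMulAction H V := MulDistribMulAction.compHom V ((MulAut.conjNormal : G →* MulAut V).comp H.subtype)
  have sm : ∀ (h : H) (v w : V), h • v = w ↔ (h : G) * v * (h : G)⁻¹ = w := fun _ _ _ => Subtype.ext_iff
  have hx : ∀ x : H, IsPiElt ({p}ᶜ : Set ℕ) (x : G) := fun x =>
    isPiElt_of_mem ((isPiNum_compl_singleton_iff hp).2 hHp) x.2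
  have hv : ∀ v : V, IsPiElt {p} (v : G) := fun v => isPiElt_singleton_of_mem hVp v.2
  have cm : ∀ {x : H} {v : V}, x • v = v → Commute (v : G) x := fun e =>
    (mem_cent.1 (mem_cent_iff_conj.2 ((sm _ _ _).1 e))).symm
  have cc : ∀ (x : H) (v : V), x • v = v → Nat.card cent((v : G) * x) =
      Nat.card ↥(pCore p G ⊓ cent((x : G))) * Nat.card ↥(cent(x) ⊓ MulAction.stabilizer H v) := fun x v e => by
    rw [cent_mul_of_coprime (cm e) ((hv v).coprime (hx x)), card_eq_card_inf_ker_mul_card_map f, f2]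
    have e1 : pCore p G ⊓ (cent((v : G)) ⊓ cent((x : G))) = pCore p G ⊓ cent((x : G)) := by
      rw [← inf_assoc, inf_eq_left.2 (show pCore p G ≤ cent((v : G)) from fun a ha =>
        mem_cent_iff_conj.2 (hC p hp a ha v v.2))]
    have e2 : (cent((v : G)) ⊓ cent((x : G))).map f = cent(x) ⊓ MulAction.stabilizer H v := by
      refine le_antisymm ?_ fun h hh => ⟨h, ⟨mem_cent_iff_conj.2 ((sm _ _ _).1 hh.2),
        mem_cent.2 ((mem_cent.1 hh.1).map H.subtype)⟩, f1 h⟩
      rintro _ ⟨g, hg, rfl⟩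
      exact ⟨mem_cent.2 (f1 x ▸ (mem_cent.1 hg.2).map f), (sm _ _ _).2 ((f3 g v v.2).trans (mem_cent_iff_conj.1 hg.1))⟩
    rw [e1, e2]
  refine ⟨H, V, inferInstance, inferInstance, inferInstance, inferInstance, inferInstance, inferInstance,
    hR.of_surjective f fun h => ⟨h, f1 h⟩, ⟨hp, h5, hVp, hV.nontrivial, fun r x r1 r2 r3 v => (sm _ _ _).2
      (hC r r1 _ ((isPiElt_coe_iff.2 r3).mem_of_index ((isPiNum_compl_singleton_iff r1).2 (hr r r1 r2))) v v.2),
      fun x v w a1 a2 a3 => ?_, fun x v a1 => ?_, fun A e => ?_⟩, fun x h0 => ⟨f x, ?_⟩⟩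
  · obtain ⟨g, hg⟩ := isConj_iff.1 (hA (v * x) (w * x) (by rw [cc x v a1, cc x w a2, a3]))
    have e1 : g * v * g⁻¹ = w := by
      rw [← piPart_mul_eq (cm a1) (hv v) (hx x), ← piPart_conj, hg, piPart_mul_eq (cm a2) (hv w) (hx x)]
    have e2 : g * x * g⁻¹ = x := by
      rw [← piPart_mul_eq' (cm a1) (hv v) (hx x), ← piPart_conj, hg, piPart_mul_eq' (cm a2) (hv w) (hx x),
        piPart_mul_eq' (cm a1) (hv v) (hx x)]
    exact ⟨f g, f1 x ▸ (mem_cent.1 (mem_cent_iff_conj.2 e2)).map f, (sm _ _ _).2 ((f3 g v v.2).trans e1)⟩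
  · obtain ⟨g, e1, e2⟩ := hR.exists_conj (cm a1) ((hv v).coprime (hx x)) zpowers_inv.symm
    exact ⟨f g, (sm _ _ _).2 ((f3 g v v.2).trans e1), by simpa [f1] using congrArg f e2⟩
  · refine card_fix_ne hR hV hp h5 hVp (B := A.map H.subtype)
      (fun h => hHp (h.trans (card_map_subtype A ▸ card_subgroup_dvd_card A))) (Eq.trans (Nat.card_congr
      ⟨fun v => ⟨⟨v, v.2.1⟩, fun a ha => (sm _ _ _).2 (mul_inv_eq_iff_eq_mul.2 (v.2.2 _ ⟨a, ha, rfl⟩))⟩,
        fun v => ⟨v.1, v.1.2, ?_⟩, fun _ => rfl, fun _ => rfl⟩) e)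
    rintro _ ⟨a, ha, rfl⟩
    exact mul_inv_eq_iff_eq_mul.1 ((sm _ _ _).1 (v.2 a ha))
  · have e1 : Nat.card ↥(pCore p G ⊓ cent(x)) = 1 := by
      obtain ⟨k, e⟩ := IsPGroup.iff_card.1 (hP.to_inf_left (K := cent(x)))
      rcases k with _ | k
      · exact e
      · exact (h0 ((dvd_pow_self p k.succ_ne_zero).trans (e ▸ card_dvd_of_le inf_le_right))).elim
    haveI := hP.isNilpotent
    have e2 := centralizer_map_mk'_eq (A := zpowers x) (N := pCore p G) (by
      rw [Nat.card_zpowers, hn]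
      exact (hp.coprime_iff_not_dvd.2 fun h => h0 (h.trans (orderOf_dvd_cent x))).symm.pow_right n) (.inr inferInstance)
    rw [MonoidHom.map_zpowers, Fgs.centralizer_zpowers, Fgs.centralizer_zpowers] at e2
    rw [card_eq_card_inf_ker_mul_card_map f cent(x), f2, e1, one_mul, ← map_map, ← e2, ← cent_map_equiv]
    rfl

end CL.AH
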