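import Cfsg.Agent.AH.Defs
import Cfsg.Agent.Loc.CFunSec
import Cfsg.Agent.Grp.Primitive

/-! Groups with conjugacy classes of distinct sizes: Sylow 2-subgroups of solvable groups of real elements. -/

set_option autoImplicit false

open Cfsg Subgroup CL.Grp
open scoped Pointwise commutatorElement

namespace CL.AH

universe u

theorem sn_map_norm {X Y : Type*} [Group X] [Group Y] (f : X →* Y) {T : Subgroup X} {n : X}
    (h : n ∈ normalizer (T : Set X)) : f n ∈ normalizer (T.map f : Set Y) :=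
  le_normalizer_map f ⟨n, h, rfl⟩

theorem sn_disj {X : Type*} [Group X] {M T : Subgroup X} {q : ℕ} (hq : q.Prime) (q2 : q ≠ 2)
    (hM : IsElementaryAbelian q M) (hT : IsPGroup 2 T) : Disjoint T M :=
  have : Fact q.Prime := ⟨hq⟩
  IsPGroup.disjoint_of_ne 2 q q2.symm _ _ hT (isPGroup_of_isElementaryAbelian hM)

theorem sn_aux : ∀ (X : Type u) [Group X] [Finite X], Group.IsSolvable X → (∀ x : X, IsConj x x⁻¹) →
    ∀ T : Subgroup X, IsSylowIn 2 T ⊤ → normalizer (T : Set X) ≤ T := by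
  refine induction_on_card fun X _ _ ih hs hr T hT => ?_
  rcases subsingleton_or_nontrivial X with h1 | h1
  · exact fun n _ => Subsingleton.elim 1 n ▸ one_mem T
  obtain ⟨M, q, hq, hM, hE⟩ := exists_isMinNormal_isElementaryAbelian X
  have := hM.normal
  have key : ∀ n ∈ normalizer (T : Set X), ∃ t ∈ T, ∃ m ∈ M, n = t * m := fun n hn => by
    obtain ⟨t, ht, e⟩ := ih (X ⧸ M) (card_quotient_lt hM.ne_bot) inferInstance
      (fun x => by
        obtain ⟨x, rfl⟩ := QuotientGroup.mk'_surjective M x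
        exact map_inv (QuotientGroup.mk' M) x ▸ (QuotientGroup.mk' M).map_isConj (hr x))
      _ (Loc.IsSylowIn.map_top hT (QuotientGroup.mk'_surjective M)) (sn_map_norm _ hn)
    exact ⟨t, ht, _, QuotientGroup.eq.1 e, by group⟩
  intro n hn
  obtain ⟨t, ht, m, hm, rfl⟩ := key n hn
  by_cases q2 : q = 2
  · subst q2
    exact mul_mem ht (hT.le_of_normalized (isPGroup_of_isElementaryAbelian hE) le_top le_normalizer_of_normal hm)
  have hd := sn_disj hq q2 hE hT.isPGroup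
  have hc : T ≤ centralizer {m} := fun x hx => mem_centralizer_singleton_iff.2
    (mem_centralizer_iff.1 (mem_centralizer_of_mem_normalizer_of_disjoint le_normalizer_of_normal hd hm
      ((mul_mem_cancel_left (le_normalizer ht)).1 hn)) x hx)
  obtain ⟨g, hg⟩ := isConj_iff.1 (hr m)
  have hc' : MulAut.conj g • T ≤ centralizer {m} := (conj_smul_le_iff _ _ _).2 fun x hx =>
    mem_centralizer_singleton_iff.2 (by
      have h2 : Commute (g * x * g⁻¹) m⁻¹ := by
        rw [← hg, Commute, SemiconjBy, conj_mul, conj_mul, mem_centralizer_singleton_iff.1 (hc hx)]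
      exact (Commute.inv_right_iff.1 h2).eq)
  obtain ⟨c, hc1, e⟩ := ((hT.conj_smul_of_mem (mem_top g)).of_le hc' le_top).exists_conj_eq (hT.of_le hc le_top)
  rw [conj_smul_conj_smul, conj_smul_eq_self_iff] at e
  obtain ⟨t', ht', m', hm', e'⟩ := key _ e
  have h3 : Commute (c * g) m := e' ▸ Commute.mul_left (mem_centralizer_singleton_iff.1 (hc ht'))
    (congrArg Subtype.val (hE.1.is_comm.comm (⟨m', hm'⟩ : M) ⟨m, hm⟩))
  have h4 : Commute g m := by
    simpa using Commute.mul_left (Commute.inv_left (mem_centralizer_singleton_iff.1 hc1)) h3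
  rw [h4.eq, mul_inv_cancel_right, eq_inv_iff_mul_eq_one, ← sq] at hg
  rw [show m = 1 from (pow_gcd_eq_one.2 ⟨hg, hE.2 m hm⟩ :) ▸ by
    rw [(Nat.coprime_primes Nat.prime_two hq).2 (Ne.symm q2), pow_one], mul_one]
  exact ht

theorem sn : SN.{u} := fun X _ _ hs hr T => sn_aux X hs hr T (isSylowIn_top T)

theorem cp_cent {X : Type u} [Group X] [Finite X] {A T : Subgroup X} (hs : Group.IsSolvable A)
    (hr : ∀ a ∈ A, ∃ g ∈ A, g * a * g⁻¹ = a⁻¹) (hT : IsSylowIn 2 T A) {s : X} (hn : s ∈ normalizer (T : Set X))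
    (hc : ∀ a ∈ A, ∃ b ∈ A, s * a * s⁻¹ = b * a * b⁻¹) {w : X} (hw : w ∈ T) (hz : w ∈ centralizer (T : Set X)) :
    s * w * s⁻¹ = w := by
  obtain ⟨b, hb, e⟩ := hc w (hT.le hw)
  have h1 : T ≤ A ⊓ centralizer {s * w * s⁻¹} := fun x hx => ⟨hT.le hx, mem_centralizer_singleton_iff.2 (by
    calc _ = s * (s⁻¹ * x * s * w) * s⁻¹ := by group
      _ = _ := by rw [mem_centralizer_iff.1 hz _ ((mem_normalizer_iff''.1 hn x).1 hx)]; group)⟩
  have h2 : MulAut.conj b • T ≤ A ⊓ centralizer {s * w * s⁻¹} := (conj_smul_le_iff _ _ _).2 fun x hx =>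
    ⟨A.mul_mem (A.mul_mem hb (hT.le hx)) (A.inv_mem hb), mem_centralizer_singleton_iff.2 (by
      rw [e, conj_mul, conj_mul, mem_centralizer_iff.1 hz x hx])⟩
  obtain ⟨c, hc1, e'⟩ := ((hT.conj_smul_of_mem hb).of_le h2 inf_le_left).exists_conj_eq (hT.of_le h1 inf_le_left)
  rw [conj_smul_conj_smul, conj_smul_eq_self_iff] at e'
  have h3 : c * b ∈ T := sn_aux A hs (fun x => let ⟨g, hg, e⟩ := hr x x.2; isConj_iff.2 ⟨⟨g, hg⟩, Subtype.ext e⟩)
    _ (Loc.IsSylowIn.subgroupOf_top hT) (x := ⟨c * b, mul_mem hc1.1 hb⟩)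
    (mem_normalizer_iff.2 fun x => mem_normalizer_iff.1 e' x)
  calc _ = c * (s * w * s⁻¹) * c⁻¹ := by rw [mem_centralizer_singleton_iff.1 hc1.2, mul_inv_cancel_right]
    _ = c * b * w * (c * b)⁻¹ := by rw [e]; group
    _ = w := by rw [mem_centralizer_iff.1 hz _ h3, mul_inv_cancel_right]

theorem cp_aux : ∀ (X : Type u) [Group X] [Finite X] (A T : Subgroup X), A.Normal →
    Group.IsSolvable A → (∀ a ∈ A, ∃ g ∈ A, g * a * g⁻¹ = a⁻¹) → IsSylowIn 2 T A →
    ∀ s ∈ normalizer (T : Set X), Odd (orderOf s) →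
    (∀ a ∈ A, ∃ b ∈ A, s * a * s⁻¹ = b * a * b⁻¹) → ⁅T, zpowers s⁆ = ⊥ := by
  refine induction_on_card fun X _ _ ih A T hA hs hr hT s hn ho hc => ?_
  by_cases h0 : A = ⊥
  · rw [le_bot_iff.1 (hT.le.trans h0.le), commutator_bot_left]
  obtain ⟨M, q, hq, hM, hMA, hE⟩ := exists_isMinNormal_isElementaryAbelian_le A h0 hs
  have := hM.normal
  have h1 := ih (X ⧸ M) (card_quotient_lt hM.ne_bot) (A.map (QuotientGroup.mk' M)) (T.map (QuotientGroup.mk' M))
    (hA.map _ (QuotientGroup.mk'_surjective M))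
    (Group.isSolvable_of_surjective ((QuotientGroup.mk' M).subgroupMap_surjective A))
    (by
      rintro _ ⟨a, ha, rfl⟩
      obtain ⟨g, hg, e⟩ := hr a ha
      exact ⟨_, ⟨g, hg, rfl⟩, by rw [← map_inv _ a, ← e, map_mul, map_mul, map_inv]⟩)
    (Loc.IsSylowIn.map_hom hT _) _ (sn_map_norm _ hn) (ho.of_dvd_nat (orderOf_map_dvd _ s))
    (by
      rintro _ ⟨a, ha, rfl⟩
      obtain ⟨b, hb, e⟩ := hc a ha
      exact ⟨_, ⟨b, hb, rfl⟩, by simpa only [map_mul, map_inv] using congrArg (QuotientGroup.mk' M) e⟩)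
  rw [← MonoidHom.map_zpowers, ← map_commutator, Subgroup.map_eq_bot_iff, QuotientGroup.ker_mk'] at h1
  have hsn : zpowers s ≤ normalizer (T : Set X) := zpowers_le.2 hn
  have h2 : ⁅T, zpowers s⁆ ≤ T := commutator_le.2 fun x hx y hy => by
    rw [commutatorElement_def, mul_assoc, mul_assoc, ← mul_assoc y]
    exact mul_mem hx ((mem_normalizer_iff.1 (hsn hy) _).1 (inv_mem hx))
  by_cases q2 : q = 2
  swap
  · exact le_bot_iff.1 ((le_inf h2 h1).trans (sn_disj hq q2 hE hT.isPGroup).le_bot)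
  by_contra hW
  have hco : (Nat.card (zpowers s)).Coprime (Nat.card T) := by
    obtain ⟨k, e⟩ := IsPGroup.iff_card.1 hT.isPGroup
    rw [e, Nat.card_zpowers]
    exact (Nat.coprime_two_right.2 ho).pow_right k
  have : IsMulCommutative (⁅T, zpowers s⁆ : Subgroup X) := ⟨⟨fun a b =>
    Subtype.ext (congrArg Subtype.val (hE.1.is_comm.comm (⟨a, h1 a.2⟩ : M) ⟨b, h1 b.2⟩) :)⟩⟩
  have h3 := inf_centralizer_inf_commutator_eq_bot (A := zpowers s) (V := ⁅T, zpowers s⁆)
    (le_normalizer_commutator' hsn le_normalizer) (hco.coprime_dvd_right (card_dvd_of_le h2))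
  rw [commutator_commutator_eq hsn hco (.inl inferInstance), inf_eq_left.2 inf_le_left] at h3
  obtain ⟨k, e⟩ := IsPGroup.iff_card.1 (hT.isPGroup.to_le h2)
  refine inf_centralizer_ne_bot_of_isPGroup hT.isPGroup (normalizer_commutator_ge_left _ _)
    (e ▸ dvd_pow_self 2 fun k0 => hW (card_eq_one.1 (by rw [e, k0, pow_zero]))) (le_bot_iff.1 (h3 ▸ fun w hw => ?_))
  refine ⟨hw.1, mem_centralizer_iff.2 fun y hy => ?_⟩
  obtain ⟨i, rfl⟩ := mem_zpowers_iff.1 hy
  exact (Commute.zpow_left (mul_inv_eq_iff_eq_mul.1 (cp_cent hs hr hT hn hc (h2 hw.1) hw.2)) i).eq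

theorem cp : CP.{u} := by
  intro X _ _ A T hs hr hT s hn ho hc
  have hA : A ≤ normalizer (A : Set X) := le_normalizer
  have hsA : s ∈ normalizer (A : Set X) := mem_normalizer_fintype fun a ha => by
    obtain ⟨b, hb, e⟩ := hc a ha
    exact e ▸ mul_mem (mul_mem hb ha) (inv_mem hb)
  have h1 := cp_aux (normalizer (A : Set X)) (A.subgroupOf _) (T.subgroupOf _) inferInstance
    (Group.isSolvable_of_surjective (f := (subgroupOfEquivOfLe hA).symm.toMonoidHom) (MulEquiv.surjective _))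
    (fun a ha => let ⟨g, hg, e⟩ := hr a ha; ⟨⟨g, hA hg⟩, hg, Subtype.ext e⟩)
    ⟨comap_mono hT.le, hT.isPGroup.comap_subtype, by rw [relIndex_subgroupOf hA]; exact hT.not_dvd⟩
    ⟨s, hsA⟩ (mem_normalizer_iff.2 fun x => mem_normalizer_iff.1 hn x) (by rwa [← orderOf_coe])
    fun a ha => let ⟨b, hb, e⟩ := hc a ha; ⟨⟨b, hA hb⟩, hb, Subtype.ext e⟩
  exact mem_centralizer_iff.2 fun x hx => congrArg Subtype.val (mem_centralizer_iff.1
    (commutator_eq_bot_iff_le_centralizer.1 h1 (x := ⟨x, hA (hT.le hx)⟩) hx) _ (mem_zpowers _)).symm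

end CL.AH
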