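import Cfsg.Agent.AH.Defs
import Cfsg.Agent.Fgs.Zsigmondy

/-! Groups with conjugacy classes of distinct sizes: maximal vector stabilizers. -/

set_option autoImplicit false

open Cfsg Subgroup CL.Fgs MulAction

namespace CL.AH

universe u

namespace StrL

theorem three_mod (b : ℕ) : 3 ^ b % 80 = 1 ∨ 3 ^ b % 80 = 3 ∨ 3 ^ b % 80 = 9 ∨ 3 ^ b % 80 = 27 := by
  induction b with
  | zero => simp
  | succ m ih => rw [pow_succ]; omega

theorem le_two {a b : ℕ} (h : 2 ^ a = 3 ^ b + 1) : a ≤ 2 := by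
  by_contra ha
  obtain ⟨c, rfl⟩ : ∃ c, a = c + 3 := ⟨a - 3, by omega⟩
  have := three_mod b
  rw [pow_add] at h
  omega

theorem le_three {a b : ℕ} (h : 2 ^ a + 1 = 3 ^ b) : a ≤ 3 := by
  by_contra ha
  obtain ⟨c, rfl⟩ : ∃ c, a = c + 4 := ⟨a - 4, by omega⟩
  have := three_mod b
  have h5 : ¬ 5 ∣ 2 ^ c := fun h => by simpa using (Nat.prime_five.dvd_of_dvd_pow h)
  rw [pow_add] at h
  omega

theorem eq_pow {n p : ℕ} (hn : n ≠ 0) (h : ∀ s, s.Prime → s ∣ n → s = p) : ∃ k, n = p ^ k :=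
  ⟨_, Nat.eq_prime_pow_of_unique_prime_dvd hn fun hs hd => h _ hs hd⟩

theorem consec {k : ℕ} (hk : 2 ≤ k) (h : ∀ s, s.Prime → s ∣ k * (k + 1) → s = 2 ∨ s = 3) :
    k = 2 ∨ k = 3 ∨ k = 4 ∨ k = 8 := by
  rcases Nat.even_or_odd' k with ⟨j, hj | hj⟩
  · obtain ⟨b, hb⟩ := eq_pow (n := k + 1) (p := 3) (by omega) fun s hs hd =>
      (h s hs (hd.mul_left _)).resolve_left (by rintro rfl; omega)
    have h3 : 3 ∣ k + 1 := hb ▸ dvd_pow_self 3 (by rintro rfl; omega)
    obtain ⟨a, ha⟩ := eq_pow (n := k) (p := 2) (by omega) fun s hs hd =>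
      (h s hs (hd.mul_right _)).resolve_right (by rintro rfl; omega)
    have := le_three (ha ▸ hb)
    interval_cases a <;> omega
  · obtain ⟨b, hb⟩ := eq_pow (n := k) (p := 3) (by omega) fun s hs hd =>
      (h s hs (hd.mul_right _)).resolve_left (by rintro rfl; omega)
    have h3 : 3 ∣ k := hb ▸ dvd_pow_self 3 (by rintro rfl; omega)
    obtain ⟨a, ha⟩ := eq_pow (n := k + 1) (p := 2) (by omega) fun s hs hd =>
      (h s hs (hd.mul_left _)).resolve_right (by rintro rfl; omega)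
    have := le_two (ha.symm.trans (by rw [hb]))
    interval_cases a <;> omega

theorem num {p m : ℕ} (hp : p.Prime) (h5 : 5 ≤ p) (hm : 2 ≤ m)
    (h : ∀ s, s.Prime → s ∣ p ^ m - 1 → s = 2 ∨ s = 3) : m = 2 ∧ (p = 5 ∨ p = 7 ∨ p = 17) := by
  obtain ⟨k, rfl⟩ := hp.odd_of_ne_two (by omega)
  have e : (2 * k + 1) ^ 2 - 1 = 4 * (k * (k + 1)) := Nat.sub_eq_of_eq_add (by ring)
  rcases hm.eq_or_lt with rfl | hm
  · refine ⟨rfl, ?_⟩
    rcases consec (k := k) (by omega) fun s hs hd => h s hs (e ▸ hd.mul_left 4) with rfl | rfl | rfl | rfl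
    exacts [.inl rfl, .inr (.inl rfl), absurd hp (by norm_num), .inr (.inr rfl)]
  exfalso
  by_cases hx : (2 * k + 1, m) ∈ zsigExc
  · simp only [zsigExc, List.mem_cons, Prod.mk.injEq, List.not_mem_nil, or_false] at hx
    obtain ⟨h1, rfl⟩ : 2 * k + 1 = 5 ∧ m = 6 := by omega
    have := h 7 (by norm_num) (by rw [h1]; norm_num)
    omega
  obtain ⟨d, h1, h2, h3⟩ := exists_large_primitive_divisor _ m (by omega) hm hx
  have h4 := Nat.minFac_prime (n := d) (by omega)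
  have h6 : ¬ 3 ∣ 2 * k + 1 := fun h6 => by
    have := (Nat.prime_dvd_prime_iff_eq Nat.prime_three hp).1 h6
    omega
  refine h4.not_dvd_one (h2 2 (by norm_num) hm ▸ Nat.dvd_gcd (Nat.minFac_dvd d) ?_)
  rw [e]
  rcases h _ h4 ((Nat.minFac_dvd d).trans h1) with h7 | h7 <;> rw [h7]
  · exact Dvd.dvd.mul_right (by norm_num) _
  · refine Dvd.dvd.mul_left ?_ _
    rcases (by omega : k % 3 = 0 ∨ k % 3 = 1 ∨ k % 3 = 2) with h8 | h8 | h8
    exacts [Dvd.dvd.mul_right (by omega) _, absurd (by omega) h6, Dvd.dvd.mul_left (by omega) _]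

variable {K V : Type*} [Group K] [Finite K] [CommGroup V] [Finite V] [MulDistribMulAction K V] {p : ℕ}

theorem main (h : Act K V p) {u : V} (hu : u ≠ 1)
    (hmax : ∀ v : V, v ≠ 1 → stabilizer K u ≤ stabilizer K v → stabilizer K v = stabilizer K u) :
    (p = 5 ∨ p = 7 ∨ p = 17) ∧ Pk (stabilizer K u) := by
  have := Fact.mk h.prime
  set A := stabilizer K u with hA
  set N := normalizer (A : Set K) with hN
  let U : Subgroup V :=
    { carrier := {v | ∀ a ∈ A, a • v = v}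
      one_mem' := fun a _ => smul_one a
      mul_mem' := fun {v w} hv hw a ha => by rw [smul_mul', hv a ha, hw a ha]
      inv_mem' := fun {v} hv a ha => by rw [smul_inv', hv a ha] }
  have uU : u ∈ U := fun a ha => ha
  have hU : ∀ v ∈ U, v ≠ 1 → stabilizer K v = A := fun v hv h1 => hmax v h1 hv
  have hNU : ∀ n ∈ N, n • u ∈ U := fun n hn a ha => by
    have : (n⁻¹ * a * n) • u = u := (mem_normalizer_iff''.1 hn a).1 ha
    rw [← mul_smul, show a * n = n * (n⁻¹ * a * n) by group, mul_smul, this]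
  have hne : ∀ g : K, g • u ≠ 1 := fun g e => hu (by rw [← inv_smul_smul g u, e, smul_one])
  have key : ∀ a ∈ A, ∀ v ∈ U, v ≠ 1 → ∃ g, Commute g a ∧ g • u = v := fun a ha v hv h1 =>
    h.ah a u v ha (hv a ha) (by rw [hU v hv h1])
  have hin : ∀ g : K, g • u ∈ U → g ∈ N := fun g hg => mem_normalizer_fintype fun a ha => by
    rw [SetLike.mem_coe, ← hU _ hg (hne g), stabilizer_smul_eq_stabilizer_map_conj]
    exact ⟨a, ha, rfl⟩
  obtain ⟨m, hm⟩ := IsPGroup.iff_card.1 (h.pgrp.to_subgroup U)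
  have h1 : A.relIndex N = p ^ m - 1 := by
    have e : orbit N u = (U : Set V) \ {1} := by
      ext v
      constructor
      · rintro ⟨n, rfl⟩
        exact ⟨hNU n n.2, hne n⟩
      · rintro ⟨hv, h1⟩
        obtain ⟨g, -, rfl⟩ := key 1 A.one_mem v hv h1
        exact ⟨⟨g, hin g hv⟩, rfl⟩
    rw [relIndex, show A.subgroupOf N = stabilizer N u from rfl, index_stabilizer, e,
      Set.ncard_sdiff_singleton_of_mem U.one_mem, ← hm]
    rfl
  have h2 : 2 ≤ m := by
    have a1 : m ≠ 0 := by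
      rintro rfl
      exact hu (mem_bot.1 ((card_eq_one.1 hm) ▸ uU))
    have a2 : m ≠ 1 := by
      rintro rfl
      exact h.fix A (hm.trans (pow_one p))
    omega
  obtain ⟨rfl, h3⟩ := num h.prime h.five h2 fun s hs hd => by
    by_contra h4
    have := Fact.mk hs
    have h5 : 5 ≤ s := by
      have := hs.two_le
      have : s ≠ 4 := by rintro rfl; norm_num at hs
      omega
    obtain ⟨P⟩ : Nonempty (Sylow s N) := inferInstance
    refine P.not_dvd_index ((h1 ▸ hd).trans (index_dvd_of_le fun x hx => ?_))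
    exact h.triv s x hs h5 ((isPiElt_singleton_of_mem P.isPGroup' hx).map N.subtype) u
  have hinv : ∀ y ∈ N, y ∉ A → y * y ∈ A → y • u = u⁻¹ := fun y hy h4 h5 => by
    by_contra h6
    refine h4 (hU _ (U.mul_mem uU (hNU y hy)) (fun e => h6 (eq_inv_of_mul_eq_one_right e)) ▸ ?_)
    rw [mem_stabilizer_iff, smul_mul', ← mul_smul, h5, mul_comm]
  refine ⟨h3, ?_, fun a ha n hn => ?_, fun a ha => h.real a u ha, fun y hy z hz y1 z1 y2 z2 => ?_⟩
  · rw [← hN, h1]
    rcases h3 with rfl | rfl | rfl <;> simp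
  · obtain ⟨g, h4, h5⟩ := key a ha _ (hNU n hn) (hne n)
    have h6 : n⁻¹ * g ∈ A := by rw [mem_stabilizer_iff, mul_smul, h5, inv_smul_smul]
    exact ⟨_, (mem_normalizer_iff.1 hn _).1 h6, by simpa using h4⟩
  · rw [mem_stabilizer_iff, mul_smul, hinv z hz z1 z2, smul_inv', hinv y hy y1 y2, inv_inv]

omit [Finite K] in
theorem exists_max {t : K} {v : V} (hv : v ≠ 1) (ht : t • v = v) : ∃ u : V, u ≠ 1 ∧ t • u = u ∧
    ∀ w : V, w ≠ 1 → stabilizer K u ≤ stabilizer K w → stabilizer K w = stabilizer K u := by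
  obtain ⟨u, hu⟩ := (Set.toFinite {v : V | v ≠ 1 ∧ t • v = v}).exists_maximalFor (stabilizer K) _ ⟨v, hv, ht⟩
  exact ⟨u, hu.1.1, hu.1.2, fun w hw h => le_antisymm (hu.2 ⟨hw, h hu.1.2⟩ h) h⟩

end StrL

open StrL in
theorem str : Str.{u} := by
  intro K V _ _ _ _ _ p h
  have := h.nt
  obtain ⟨v, hv⟩ := exists_ne (1 : V)
  obtain ⟨u, hu, -, hm⟩ := exists_max (K := K) hv (one_smul K v)
  refine ⟨(main h hu hm).1, fun t ht => ?_⟩
  by_cases h1 : ∃ w : V, w ≠ 1 ∧ t • w = w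
  · obtain ⟨w, h2, h3⟩ := h1
    obtain ⟨u, hu, h4, hm⟩ := exists_max h2 h3
    exact ⟨_, (main h hu hm).2, le_normalizer h4⟩
  refine ⟨_, (main h hu hm).2, mem_normalizer_fintype fun a ha => ?_⟩
  have h2 : t • u = u⁻¹ := eq_inv_of_mul_eq_one_right (by
    by_contra h2
    exact h1 ⟨_, h2, by rw [smul_mul', ← mul_smul, ht, one_smul, mul_comm]⟩)
  have h3 : a • u = u := ha
  change (t * a * t⁻¹) • u = u
  rw [inv_eq_of_mul_eq_one_right ht, mul_smul, mul_smul, h2, smul_inv', h3, smul_inv', h2, inv_inv]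

end CL.AH
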