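import Cfsg.Agent.AH.Defs

/-! Groups with conjugacy classes of distinct sizes: four bounds for sums of reciprocals. -/

set_option autoImplicit false

open Finset

namespace CL.AH

theorem sum_gen (P : Finset ℕ) (E : ℕ → Finset ℕ) (T : Finset ℕ)
    (h : ∀ c ∈ T, c ≠ 0 ∧ (∀ r : ℕ, r.Prime → r ∣ c → r ∈ P) ∧ ∀ r ∈ P, c.factorization r ∈ E r) :
    ∑ c ∈ T, (1 : ℚ) / c ≤ ∏ r ∈ P, ∑ a ∈ E r, (1 : ℚ) / (r : ℚ) ^ a := by
  classical
  have key : ∀ c ∈ T, ∏ r ∈ P, r ^ c.factorization r = c := fun c hc => by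
    conv_rhs => rw [← Nat.prod_factorization_pow_eq_self (h c hc).1]
    refine (Finsupp.prod_of_support_subset _ (fun r hr => ?_) (fun r a => r ^ a) (fun _ _ => pow_zero _)).symm
    rw [Nat.support_factorization, Nat.mem_primeFactors] at hr
    exact (h c hc).2.1 r hr.1 hr.2.1
  rw [prod_sum]
  let φ : ℕ → (∀ r ∈ P, ℕ) := fun c r _ => c.factorization r
  have hφ : Set.InjOn φ T := fun c hc d hd e => by
    rw [← key c hc, ← key d hd]
    exact prod_congr rfl fun r hr => congrArg (r ^ ·) (congrFun (congrFun e r) hr)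
  calc ∑ c ∈ T, (1 : ℚ) / c = ∑ c ∈ T, ∏ x ∈ P.attach, (1 : ℚ) / (x.1 : ℚ) ^ φ c x.1 x.2 := by
        refine sum_congr rfl fun c hc => ?_
        conv_lhs => rw [← key c hc]
        rw [prod_attach P fun r => (1 : ℚ) / (r : ℚ) ^ c.factorization r, prod_div_distrib, prod_const_one]
        push_cast
        rfl
    _ = ∑ p ∈ T.image φ, ∏ x ∈ P.attach, (1 : ℚ) / (x.1 : ℚ) ^ p x.1 x.2 := by rw [sum_image hφ]
    _ ≤ _ := by
        refine sum_le_sum_of_subset_of_nonneg (fun p hp => ?_) fun p _ _ => prod_nonneg fun x _ => by positivity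
        obtain ⟨c, hc, rfl⟩ := mem_image.1 hp
        exact mem_pi.2 fun r hr => (h c hc).2.2 r hr

theorem sum_geo (r : ℚ) (hr : 1 < r) (N : ℕ) : ∑ a ∈ range N, 1 / r ^ a < r / (r - 1) := by
  have h0 : 0 < r - 1 := by linarith
  have h1 : 0 < r := by linarith
  have e : ∑ a ∈ range N, 1 / r ^ a + r / ((r - 1) * r ^ N) = r / (r - 1) := by
    induction N with
    | zero => simp
    | succ n ih => rw [sum_range_succ, ← ih]; field_simp; ring
  have : 0 < r / ((r - 1) * r ^ N) := by positivity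
  linarith

theorem sum_geo' (r : ℚ) (hr : 1 < r) (N : ℕ) :
    ∑ a ∈ (range (N + 2)).erase 1, 1 / r ^ a < r / (r - 1) - 1 / r := by
  rw [sum_erase_eq_sub (by simp), pow_one]
  linarith [sum_geo r hr (N + 2)]

theorem sum_s23 {c r : ℕ} (hc : c ∣ 12) (hr : r.Prime) (h : r ∣ c) : r = 2 ∨ r = 3 := by
  rcases (Nat.Prime.dvd_mul hr).1 (show r ∣ 2 ^ 2 * 3 from h.trans hc) with e | e
  · exact Or.inl ((Nat.prime_dvd_prime_iff_eq hr Nat.prime_two).1 (hr.dvd_of_dvd_pow e))
  · exact Or.inr ((Nat.prime_dvd_prime_iff_eq hr Nat.prime_three).1 e)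

theorem sum_fac {T : Finset ℕ} {c : ℕ} (hc : c ∈ T) (h0 : c ≠ 0) (r : ℕ) :
    c.factorization r < T.sup id := (Nat.factorization_lt r h0).trans_le (le_sup (f := id) hc)

theorem sum_A (T : Finset ℕ) (h : ∀ c ∈ T, c ≠ 0 ∧
    ∀ r : ℕ, r.Prime → r ∣ c → r = 2 ∨ r = 3 ∨ ((r = 5 ∨ r = 7 ∨ r = 17) ∧ r ^ 2 ∣ c)) :
    ∑ c ∈ T, (1 : ℚ) / c ≤ 2 * (3 / 2 * (21 / 20 * (43 / 42 * (273 / 272)))) := by
  refine (sum_gen {2, 3, 5, 7, 17} (fun r => if r ≤ 3 then range (T.sup id) else (range (T.sup id + 2)).erase 1) T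
    fun c hc => ⟨(h c hc).1, fun r hr hd => ?_, fun r hr => ?_⟩).trans ?_
  · have := (h c hc).2 r hr hd
    simp only [mem_insert, mem_singleton]
    tauto
  · have a1 := sum_fac hc (h c hc).1 r
    split_ifs with a2
    · exact mem_range.2 a1
    · refine mem_erase.2 ⟨fun e => ?_, mem_range.2 (by omega)⟩
      have a3 : r.Prime := by
        simp only [mem_insert, mem_singleton] at hr
        rcases hr with rfl | rfl | rfl | rfl | rfl <;> norm_num
      rcases (h c hc).2 r a3 (Nat.dvd_of_factorization_pos (by omega)) with b | b | ⟨-, b⟩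
      · omega
      · omega
      · have := (a3.pow_dvd_iff_le_factorization (h c hc).1).1 b
        omega
  · rw [prod_insert (by decide), prod_insert (by decide), prod_insert (by decide), prod_insert (by decide),
      prod_singleton]
    have b2 := (sum_geo 2 (by norm_num) (T.sup id)).le
    have b3 := (sum_geo 3 (by norm_num) (T.sup id)).le
    have b5 := (sum_geo' 5 (by norm_num) (T.sup id)).le
    have b7 := (sum_geo' 7 (by norm_num) (T.sup id)).le
    have b17 := (sum_geo' 17 (by norm_num) (T.sup id)).le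
    rw [if_pos (by decide), if_pos (by decide), if_neg (by decide), if_neg (by decide), if_neg (by decide)]
    push_cast
    gcongr <;> linarith

theorem sum_B (T : Finset ℕ) (N : ℕ) (h : ∀ c ∈ T, c ≠ 0 ∧ c.factorization 2 < N ∧
    ∀ r : ℕ, r.Prime → r ∣ c → r = 2 ∨ r = 3) :
    ∑ c ∈ T, (1 : ℚ) / c ≤ (∑ a ∈ range N, (1 : ℚ) / 2 ^ a) * (3 / 2) := by
  refine (sum_gen {2, 3} (fun r => if r = 2 then range N else range (T.sup id)) T
    fun c hc => ⟨(h c hc).1, fun r hr hd => ?_, fun r _ => ?_⟩).trans ?_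
  · simpa only [mem_insert, mem_singleton] using (h c hc).2.2 r hr hd
  · split_ifs with a2
    · exact mem_range.2 (a2 ▸ (h c hc).2.1)
    · exact mem_range.2 (sum_fac hc (h c hc).1 r)
  · rw [prod_insert (by decide), prod_singleton, if_pos rfl, if_neg (by decide)]
    have b3 := (sum_geo 3 (by norm_num) (T.sup id)).le
    push_cast
    gcongr
    linarith

theorem sum1 : Sum1 := by
  intro T h
  have hd : Disjoint T {1, 2, 3, 4, 6} := disjoint_left.2 fun c hc e => by
    have := h c hc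
    simp only [mem_insert, mem_singleton] at e
    tauto
  have := sum_A (T ∪ {1, 2, 3, 4, 6}) fun c hc => by
    rcases mem_union.1 hc with e | e
    · exact ⟨(h c e).1, (h c e).2.2.2.2.2.2⟩
    · have a : c ∣ 12 := by
        simp only [mem_insert, mem_singleton] at e
        rcases e with rfl | rfl | rfl | rfl | rfl <;> decide
      exact ⟨by rintro rfl; revert a; decide, fun r hr hc => (sum_s23 a hr hc).imp_right Or.inl⟩
  rw [sum_union hd, sum_insert (by decide), sum_insert (by decide), sum_insert (by decide), sum_insert (by decide),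
    sum_singleton] at this
  push_cast at this
  linarith

theorem sum2 : Sum2 := by
  intro T h
  have hd : Disjoint T {1, 2, 3, 4} := disjoint_left.2 fun c hc e => by
    have := (h c hc).1
    simp only [mem_insert, mem_singleton] at e
    omega
  have h0 : ∀ c ∈ T ∪ {1, 2, 3, 4}, c ≠ 0 ∧ ∀ r : ℕ, r.Prime → r ∣ c → r = 2 ∨ r = 3 := fun c hc => by
    rcases mem_union.1 hc with e | e
    · exact ⟨by have := (h c e).1; omega, (h c e).2⟩
    · have a : c ∣ 12 := by
        simp only [mem_insert, mem_singleton] at e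
        rcases e with rfl | rfl | rfl | rfl <;> decide
      exact ⟨by rintro rfl; revert a; decide, fun r hr hc => sum_s23 a hr hc⟩
  have := sum_B (T ∪ {1, 2, 3, 4}) _ fun c hc => ⟨(h0 c hc).1, sum_fac hc (h0 c hc).1 2, (h0 c hc).2⟩
  rw [sum_union hd, sum_insert (by decide), sum_insert (by decide), sum_insert (by decide), sum_singleton] at this
  have b := sum_geo 2 (by norm_num) ((T ∪ {1, 2, 3, 4}).sup id)
  push_cast at this
  linarith

theorem sum_ins (s : Finset ℕ) (a : ℕ) : ∑ c ∈ insert a s, (1 : ℚ) / c ≤ 1 / a + ∑ c ∈ s, (1 : ℚ) / c := by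
  by_cases e : a ∈ s
  · rw [insert_eq_of_mem e]
    exact le_add_of_nonneg_left (by positivity)
  · rw [sum_insert e]

theorem sum3 : Sum3 := by
  classical
  intro T n hn h
  let U := T.filter fun c => 4 ≤ c ∧ ∀ r : ℕ, r.Prime → r ∣ c → r = 2
  have hU : ∀ c ∈ U, 4 ≤ c ∧ ∀ r : ℕ, r.Prime → r ∣ c → r = 2 := fun c hc => (mem_filter.1 hc).2
  have a1 : ∑ c ∈ T, (1 : ℚ) / c ≤ ∑ c ∈ insert 3 (insert n U), (1 : ℚ) / c :=
    sum_le_sum_of_subset_of_nonneg (fun c hc => by
      simpa only [mem_insert, U, mem_filter, hc, true_and] using h c hc) fun _ _ _ => by positivity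
  have a2 := sum_ins (insert n U) 3
  have a3 := sum_ins U n
  have a4 : (1 : ℚ) / n ≤ 1 / 6 := by
    have : (6 : ℚ) ≤ n := by exact_mod_cast hn
    gcongr
  have hd : Disjoint U {1, 2} := disjoint_left.2 fun c hc e => by
    have := (hU c hc).1
    simp only [mem_insert, mem_singleton] at e
    omega
  have h0 : ∀ c ∈ U ∪ {1, 2}, c ≠ 0 ∧ ∀ r : ℕ, r.Prime → r ∣ c → r ∈ ({2} : Finset ℕ) := fun c hc => by
    rcases mem_union.1 hc with e | e
    · exact ⟨by have := (hU c e).1; omega, fun r hr hc => mem_singleton.2 ((hU c e).2 r hr hc)⟩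
    · have a : c ∣ 2 := by
        simp only [mem_insert, mem_singleton] at e
        rcases e with rfl | rfl <;> decide
      exact ⟨by rintro rfl; revert a; decide, fun r hr hc =>
        mem_singleton.2 ((Nat.prime_dvd_prime_iff_eq hr Nat.prime_two).1 (hc.trans a))⟩
  have a5 := sum_gen {2} (fun _ => range ((U ∪ {1, 2}).sup id)) (U ∪ {1, 2}) fun c hc =>
    ⟨(h0 c hc).1, (h0 c hc).2, fun r _ => mem_range.2 (sum_fac hc (h0 c hc).1 r)⟩
  rw [sum_union hd, sum_insert (by decide), sum_singleton, prod_singleton] at a5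
  have b := sum_geo 2 (by norm_num) ((U ∪ {1, 2}).sup id)
  push_cast at a2 a5
  linarith

theorem sum4 : Sum4 := by
  intro T h
  have hd : Disjoint T {1, 2, 3} := disjoint_left.2 fun c hc e => by
    have := (h c hc).1
    simp only [mem_insert, mem_singleton] at e
    omega
  have h0 : ∀ c ∈ T ∪ {1, 2, 3}, c ≠ 0 ∧ ¬ 16 ∣ c ∧ ∀ r : ℕ, r.Prime → r ∣ c → r = 2 ∨ r = 3 := fun c hc => by
    rcases mem_union.1 hc with e | e
    · exact ⟨by have := (h c e).1; omega, (h c e).2⟩
    · have a : c ∣ 12 := by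
        simp only [mem_insert, mem_singleton] at e
        rcases e with rfl | rfl | rfl <;> decide
      exact ⟨by rintro rfl; revert a; decide, fun b => absurd (b.trans a) (by decide),
        fun r hr hc => sum_s23 a hr hc⟩
  have := sum_B (T ∪ {1, 2, 3}) 4 fun c hc => ⟨(h0 c hc).1, not_le.1 fun e =>
    (h0 c hc).2.1 ((Nat.prime_two.pow_dvd_iff_le_factorization (h0 c hc).1).2 e), (h0 c hc).2.2⟩
  rw [sum_union hd, sum_insert (by decide), sum_insert (by decide), sum_singleton] at this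
  simp only [sum_range_succ, sum_range_zero] at this
  push_cast at this
  norm_num at this
  simp only [one_div]
  linarith

end CL.AH
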