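import Cfsg.Agent.AH.Basic

/-! Groups with conjugacy classes of distinct sizes: in a solvable rational group the Sylow
`p`-subgroups for `p ≥ 5` are normal. -/

set_option autoImplicit false
set_option linter.unusedSectionVars false

open Cfsg Subgroup CL.Fgs CL.Grp

namespace CL.AH

universe u

variable {G : Type*} [Group G] [Finite G]

theorem card_addHom_zmod {V : Type*} [AddCommGroup V] [Finite V] {q : ℕ} [Fact q.Prime]
    [Module (ZMod q) V] : Nat.card (V →+ ZMod q) = Nat.card V := by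
  haveI : Module.Finite (ZMod q) V := Module.Finite.of_finite
  exact (Nat.card_congr (AddMonoidHom.toZModLinearMapEquiv q).toEquiv).trans
    (Nat.card_congr (Module.finBasis (ZMod q) V).toDualEquiv.toEquiv).symm

/-- a proper subgroup has a nontrivial orthogonal complement -/
theorem Fm.exists_perp {M : Subgroup G} {q : ℕ} {β : G → G → ZMod q} {ε : ZMod q}
    (F : Fm M q β ε) (hq : q.Prime) (he : IsElementaryAbelian q M) {B : Subgroup G} (hB : B < M) :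
    ∃ u ∈ M, u ≠ 1 ∧ ∀ b ∈ B, β u b = 0 := by
  haveI := Fact.mk hq
  letI : CommGroup B := { (inferInstance : Group B) with
    mul_comm := fun a b => Subtype.ext (Subtype.ext_iff.1
      (he.1.1.1 ⟨a, hB.le a.2⟩ ⟨b, hB.le b.2⟩) :) }
  have h1 := @card_addHom_zmod (Additive B) _ _ q _
    (AddCommGroup.zmodModule fun x => Subtype.ext (he.2 _ (hB.le x.toMul.2)))
  let φ : M → (Additive B →+ ZMod q) := fun a => AddMonoidHom.mk' (fun b => β a b.toMul)
    fun b c => F.mul_right _ a.2 _ (hB.le b.toMul.2) _ (hB.le c.toMul.2)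
  haveI : Finite (Additive B →+ ZMod q) := Finite.of_injective _ DFunLike.coe_injective
  by_contra h
  push Not at h
  refine (card_lt_card_of_lt hB).not_ge ((Nat.card_le_card_of_injective φ fun a c e => ?_).trans
    h1.le)
  by_contra hne
  obtain ⟨b, hb, h2⟩ := h (a * (c : G)⁻¹) (mul_mem a.2 (inv_mem c.2)) fun e =>
    hne (Subtype.ext (mul_inv_eq_one.1 e))
  rw [F.mul_left _ a.2 _ (inv_mem c.2) _ (hB.le hb), F.inv_left c.2 (hB.le hb)] at h2
  exact h2 (add_neg_eq_zero.2 (DFunLike.congr_fun e (Additive.ofMul ⟨b, hb⟩)))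

/-- the polarization step -/
theorem Fm.polar {M W : Subgroup G} {q : ℕ} {β : G → G → ZMod q} {ε : ZMod q}
    (F : Fm M q β ε) (hWM : W ≤ M) (hc : ∀ a ∈ M, ∀ b ∈ M, a * b = b * a)
    (hnd : ∀ w ∈ W, (∀ v ∈ W, β w v = 0) → w = 1) {z : G}
    (hz : ∀ w ∈ W, z * w * z⁻¹ ∈ W)
    (hQ : ∀ w ∈ W, β w (z * w * z⁻¹) = β w (z ^ 2 * w * (z ^ 2)⁻¹)) {v : G} (hv : v ∈ W) :
    Commute (z ^ 6) (z * v * z⁻¹ * v⁻¹) := by
  let σ : G →* G := (MulAut.conj z : G ≃* G)
  have hσ : ∀ w ∈ W, σ w ∈ W := hz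
  have hi : ∀ a ∈ W, ∀ b ∈ W, β (σ a) (σ b) = β a b := fun a ha b hb =>
    F.conj z a (hWM ha) b (hWM hb)
  have hQ' : ∀ w ∈ W, β w (σ w) = β w (σ (σ w)) := fun w hw => (hQ w hw).trans (by
    congr 1
    change _ = z * (z * w * z⁻¹) * z⁻¹
    simp only [pow_two, mul_inv_rev, mul_assoc])
  have l : ∀ a ∈ W, ∀ b ∈ W, ∀ c ∈ W, β (a * b) c = β a c + β b c := fun a ha b hb c hc =>
    F.mul_left a (hWM ha) b (hWM hb) c (hWM hc)
  have r : ∀ a ∈ W, ∀ b ∈ W, ∀ c ∈ W, β a (b * c) = β a b + β a c := fun a ha b hb c hc =>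
    F.mul_right a (hWM ha) b (hWM hb) c (hWM hc)
  have s : ∀ a ∈ W, ∀ b ∈ W, β a b = ε * β b a := fun a ha b hb => F.symm a (hWM ha) b (hWM hb)
  have n : ∀ a ∈ W, ∀ b ∈ W, β a b⁻¹ = -β a b := fun a ha b hb => F.inv_right (hWM ha) (hWM hb)
  have h1 : ∀ w ∈ W, ∀ v ∈ W, β w (σ v) + β v (σ w) = β w (σ (σ v)) + β v (σ (σ w)) := by
    intro w hw v hv
    have h := hQ' _ (mul_mem hw hv)
    simp only [map_mul] at h
    rw [l _ hw _ hv _ (mul_mem (hσ _ hw) (hσ _ hv)), r _ hw _ (hσ _ hw) _ (hσ _ hv),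
      r _ hv _ (hσ _ hw) _ (hσ _ hv),
      l _ hw _ hv _ (mul_mem (hσ _ (hσ _ hw)) (hσ _ (hσ _ hv))),
      r _ hw _ (hσ _ (hσ _ hw)) _ (hσ _ (hσ _ hv)), r _ hv _ (hσ _ (hσ _ hw)) _ (hσ _ (hσ _ hv)),
      hQ' w hw, hQ' v hv] at h
    linear_combination h
  have h2 : ∀ w ∈ W, ∀ v ∈ W, β w (σ (σ (σ (σ v * v⁻¹)))) = ε * β w (σ v * v⁻¹) := by
    intro w hw v hv
    have h := h1 w hw _ (hσ _ (hσ _ hv))
    rw [hi _ (hσ _ hv) _ hw, hi _ (hσ _ hv) _ (hσ _ hw), hi _ hv _ hw, s _ (hσ _ hv) _ hw,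
      s _ hv _ hw] at h
    simp only [map_mul, map_inv]
    rw [r _ hw _ (hσ _ (hσ _ (hσ _ (hσ _ hv)))) _ (inv_mem (hσ _ (hσ _ (hσ _ hv)))),
      r _ hw _ (hσ _ hv) _ (inv_mem hv), n _ hw _ hv, n _ hw _ (hσ _ (hσ _ (hσ _ hv)))]
    linear_combination -h
  have hd : σ v * v⁻¹ ∈ W := mul_mem (hσ _ hv) (inv_mem hv)
  have h6 := hσ _ (hσ _ (hσ _ (hσ _ (hσ _ (hσ _ hd)))))
  have h3 := hnd _ (mul_mem h6 (inv_mem hd)) fun w hw => by
    have h := h2 w hw _ (hσ _ (hσ _ (hσ _ hv)))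
    rw [show σ (σ (σ (σ v))) * (σ (σ (σ v)))⁻¹ = σ (σ (σ (σ v * v⁻¹))) by
      simp only [map_mul, map_inv], h2 w hw v hv, ← mul_assoc, F.sq, one_mul] at h
    rw [s _ (mul_mem h6 (inv_mem hd)) _ hw, r _ hw _ h6 _ (inv_mem hd), n _ hw _ hd, h,
      add_neg_cancel, mul_zero]
  refine mem_cent.1 (mem_cent_iff_conj.2 (Eq.trans ?_ (mul_inv_eq_one.1 h3)))
  change z ^ 6 * (σ v * v⁻¹) * _ = _
  generalize σ v * v⁻¹ = d
  change _ = z * (z * (z * (z * (z * (z * d * z⁻¹) * z⁻¹) * z⁻¹) * z⁻¹) * z⁻¹) * z⁻¹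
  simp only [pow_succ, pow_zero, one_mul, mul_inv_rev, mul_assoc]

theorem thmN_core (h : Rat G) {p q : ℕ} (hp : p.Prime) (h5 : 5 ≤ p) (hq : q.Prime) (hqp : q ≠ p)
    {M : Subgroup G} [M.Normal] (hM : IsMinNormal M) (he : IsElementaryAbelian q M)
    {Ω : Subgroup (G ⧸ M)} (hΩ : IsMinNormal Ω) (hP : IsPGroup p Ω) (h0 : pCore p G = ⊥) :
    False := by
  haveI := Fact.mk hp
  haveI := Fact.mk hq
  haveI := hΩ.normal
  haveI := he.1
  have heΩ := hΩ.isElementaryAbelian_of_isPGroup hP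
  let f := QuotientGroup.mk' M
  have hf : ∀ x, f x = 1 ↔ x ∈ M := fun x => QuotientGroup.eq_one_iff x
  obtain ⟨A, hA⟩ := exists_isSylowIn (p := p) (Ω.comap f)
  have hMΩ : M ≤ Ω.comap f := fun x hx => by
    rw [mem_comap, (hf x).2 hx]; exact Ω.one_mem
  obtain ⟨a, ha⟩ := IsPGroup.iff_card.1 hA.isPGroup
  obtain ⟨m, hm⟩ := IsPGroup.iff_card.1 (isPGroup_of_isElementaryAbelian he)
  have hco : (Nat.card A).Coprime (Nat.card M) := by
    rw [ha, hm]
    exact Nat.Coprime.pow _ _ ((Nat.coprime_primes hp hq).2 hqp.symm)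
  have hAM : ∀ x ∈ A, f x = 1 → x = 1 := fun x hx e =>
    (eq_bot_iff_forall _).1 (inf_eq_bot_of_coprime hco) x ⟨hx, (hf x).1 e⟩
  have hdec : ∀ x ∈ Ω.comap f, ∃ m ∈ M, ∃ a ∈ A, x = m * a := by
    obtain ⟨n, hn⟩ := IsPGroup.iff_card.1 hP
    refine fun x hx => hA.exists_mul_eq_of_relIndex_pow (n := n) ?_ hx
    rw [← card_map_mk', map_comap_eq_self_of_surjective (QuotientGroup.mk'_surjective M), hn]
  have hAΩ : ∀ x ∈ A, f x ∈ Ω := fun x hx => hA.le hx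
  have hAc : ∀ x ∈ A, ∀ y ∈ A, x * y = y * x := fun x hx y hy => by
    have h1 : f x * f y = f y * f x :=
      congrArg Subtype.val (heΩ.1.1.1 ⟨_, hAΩ x hx⟩ ⟨_, hAΩ y hy⟩)
    refine mul_inv_eq_one.1 (hAM _ (mul_mem (mul_mem hx hy) (inv_mem (mul_mem hy hx))) ?_)
    rw [map_mul, map_inv, map_mul, map_mul, h1, mul_inv_cancel]
  haveI : IsMulCommutative A := ⟨⟨fun x y => Subtype.ext (hAc _ x.2 _ y.2)⟩⟩
  have hAp : ∀ x ∈ A, x ^ p = 1 := fun x hx =>
    hAM _ (pow_mem hx p) (by rw [map_pow, heΩ.2 _ (hAΩ x hx)])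
  have hMc : ∀ x ∈ M, ∀ y ∈ M, x * y = y * x := fun x hx y hy =>
    congrArg Subtype.val (he.1.1.1 ⟨_, hx⟩ ⟨_, hy⟩)
  have htop : M ⊔ normalizer (A : Set G) = ⊤ := by
    refine eq_top_iff.2 fun g _ => ?_
    obtain ⟨n, hn, h1⟩ := hA.frattini (H := ⊤) le_normalizer_of_normal (mem_top g)
    rw [show g = n⁻¹ * (n * g) by group]
    exact mul_mem (by
      obtain ⟨m, hm, a, ha, e⟩ := hdec _ (inv_mem hn)
      rw [e]
      exact mul_mem (mem_sup_left hm) (mem_sup_right (le_normalizer ha))) (mem_sup_right h1)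
  have hC : M ⊓ centralizer (A : Set G) = ⊥ := by
    haveI : (M ⊓ centralizer (A : Set G)).Normal := normal_of_sup_le_normalizer htop
      (le_normalizer_of_isMulCommutative inf_le_left)
      (le_normalizer_inf le_normalizer_of_normal (le_normalizer_centralizer' le_rfl))
    by_contra hne
    have h1 : M ≤ centralizer (A : Set G) := inf_eq_left.1 (hM.eq_of_le hne inf_le_left)
    haveI : A.Normal := normal_of_sup_le_normalizer htop
      (h1.trans (centralizer_le_normalizer _)) le_rfl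
    have h2 : A = ⊥ := le_bot_iff.1 (h0 ▸ le_pCore hA.isPGroup)
    refine hΩ.ne_bot ((eq_bot_iff_forall _).2 fun y hy => ?_)
    obtain ⟨x, rfl⟩ := QuotientGroup.mk'_surjective M y
    obtain ⟨m, hm, a, ha, rfl⟩ := hdec x hy
    rw [(eq_bot_iff_forall _).1 h2 a ha, mul_one]
    exact (hf m).2 hm
  obtain ⟨B, hBA, ⟨z, hz, hBz⟩, hW⟩ : ∃ B : Subgroup G, B ≤ A ∧ (∃ a ∈ A, B ⊔ zpowers a = A) ∧
      ¬ M ⊓ centralizer (B : Set G) ≤ ⊥ := by
    by_contra hn
    push Not at hn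
    exact hM.ne_bot (le_bot_iff.1
      (le_of_forall_cocyclic_centralizer_le le_normalizer_of_normal hco hn))
  have hfix : ∀ v ∈ M ⊓ centralizer (B : Set G), Commute z v → v = 1 := fun v hv hc =>
    (eq_bot_iff_forall _).1 hC v ⟨hv.1, le_cent_iff.1 (hBz ▸ sup_le (le_cent_iff.2 hv.2)
      (zpowers_le.2 (mem_cent.2 hc)))⟩
  have hdecA : ∀ x ∈ A, ∃ b ∈ B, ∃ j : ℕ, x = b * z ^ j := fun x hx => by
    obtain ⟨b, hb, c, hc, e⟩ := (mem_sup_iff_of_le_normalizer ((zpowers_le.2 hz).trans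
      (le_normalizer_of_isMulCommutative hBA))).1 (hBz ▸ hx)
    obtain ⟨j, rfl⟩ := (mem_powers_iff_mem_zpowers.2 hc : c ∈ Submonoid.powers z)
    exact ⟨b, hb, j, e⟩
  obtain ⟨ω, ε', E⟩ := exists_fm hΩ hp heΩ (h.quotient M).isConj_inv
  obtain ⟨β, ε, F⟩ := exists_fm hM hq he h.isConj_inv
  have hlt : B.map f < Ω := by
    refine lt_of_le_of_ne (map_le_iff_le_comap.2 (hBA.trans hA.le)) fun e => hW fun v hv => ?_
    obtain ⟨b, hb, e'⟩ : f z ∈ B.map f := e ▸ hAΩ z hz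
    have h1 := hAM _ (mul_mem (hBA hb) (inv_mem hz)) (by rw [map_mul, map_inv, e', mul_inv_cancel])
    exact hfix v hv (mul_inv_eq_one.1 h1 ▸ hv.2 b hb)
  obtain ⟨u', hu', hu1, hu⟩ := E.exists_perp hp heΩ hlt
  obtain ⟨u, hua, rfl⟩ : ∃ u ∈ A, f u = u' := by
    obtain ⟨x, rfl⟩ := QuotientGroup.mk'_surjective M u'
    obtain ⟨m, hm, a, ha, rfl⟩ := hdec x hu'
    exact ⟨a, ha, by rw [map_mul, (hf m).2 hm, one_mul]⟩
  have hω : ∀ m ∈ M, ∀ b ∈ B, ∀ j : ℕ, ω (f u) (f (m * (b * z ^ j))) = j * ω (f u) (f z) :=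
    fun m hm b hb j => by
      rw [map_mul, (hf m).2 hm, one_mul, map_mul, map_pow,
        E.mul_right _ hu' _ (hAΩ b (hBA hb)) _ (pow_mem (hAΩ z hz) j), hu _ (mem_map_of_mem f hb),
        zero_add, E.pow_right hu' (hAΩ z hz)]
  have hc : ω (f u) (f z) ≠ 0 := fun e => hu1 (E.nondeg _ hu' fun y hy => by
    obtain ⟨x, rfl⟩ := QuotientGroup.mk'_surjective M y
    obtain ⟨m, hm, a, ha, rfl⟩ := hdec x hy
    obtain ⟨b, hb, j, rfl⟩ := hdecA a ha
    rw [hω m hm b hb, e, mul_zero])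
  have hzj : ∀ i j : ℕ, (i : ZMod p) = j → z ^ i = z ^ j := fun i j e =>
    pow_eq_pow_iff_modEq.2 (((ZMod.natCast_eq_natCast_iff _ _ _).1 e).of_dvd
      (orderOf_dvd_of_pow_eq_one (hAp z hz)))
  have huB : u ∈ B := by
    obtain ⟨b, hb, j, e⟩ := hdecA u hua
    have h1 := hω 1 M.one_mem b hb j
    rw [one_mul, ← e, E.alt hp h5 heΩ.2 (h.quotient M) hu'] at h1
    rw [e, hzj j 0 (((mul_eq_zero.1 h1.symm).resolve_right hc).trans Nat.cast_zero.symm), pow_zero,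
      mul_one]
    exact hb
  obtain ⟨k, hk⟩ : ∃ k, p + 1 = 2 * k := (hp.odd_of_ne_two (by omega)).add_one.two_dvd
  have hk' : (2 : ZMod p) * k = 1 := by
    have := congrArg (Nat.cast : ℕ → ZMod p) hk
    push_cast at this
    rw [← this, ZMod.natCast_self, zero_add]
  have hku : k.Coprime (orderOf u) := Nat.Coprime.coprime_dvd_right
    (orderOf_dvd_of_pow_eq_one (hAp u hua)) ((Nat.Prime.coprime_iff_not_dvd hp).2 fun e => by
      have := Nat.le_of_dvd (by omega) e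
      omega).symm
  have hzW : ∀ x ∈ A, ∀ w ∈ M ⊓ centralizer (B : Set G), x * w * x⁻¹ ∈ M ⊓ centralizer (B : Set G) :=
    fun x hx w hw => (mem_normalizer_iff.1 (le_normalizer_inf le_normalizer_of_normal
      (le_normalizer_centralizer' (le_normalizer_of_isMulCommutative hBA)) hx) w).1 hw
  haveI := (isPGroup_of_isElementaryAbelian he).isNilpotent
  refine hW fun v hv => hfix v hv (mem_cent.1 (mem_cent_iff_conj.2 (mul_inv_eq_one.1
    (hfix _ (mul_mem (hzW z hz v hv) (inv_mem hv)) ?_))))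
  refine mem_cent.1 (zpowers_le.2 (mem_cent.2 (F.polar inf_le_left hMc (fun w hw =>
    F.nondeg_fix inferInstance (hco.coprime_dvd_left (card_dvd_of_le hBA)) hw) (hzW z hz)
    (fun w hw => ?_) hv)) (mem_zpowers_pow_iff.2 (Nat.Coprime.coprime_dvd_right
      (orderOf_dvd_of_pow_eq_one (hAp z hz)) ?_)))
  · obtain ⟨g, g1, g2⟩ := h.exists_conj (x := w) (y := u) (hw.2 u huB).symm
      ((hco.coprime_dvd_left (orderOf_dvd_natCard A hua)).symm.coprime_dvd_left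
        (orderOf_dvd_natCard M hw.1)) (zpowers_pow_of_coprime hku).symm
    obtain ⟨m, hm, a, ha, e⟩ := hdec _ (Normal.conj_mem inferInstance z (hA.le hz) g)
    obtain ⟨b, hb, i, rfl⟩ := hdecA a ha
    have h1 := E.conj (f g) _ hu' _ (hAΩ z hz)
    rw [← map_inv, ← map_mul, ← map_mul, ← map_mul, ← map_mul, g2, e, map_pow,
      E.pow_left hu' (show m * (b * z ^ i) ∈ Ω.comap f from
        mul_mem (hMΩ hm) (hA.le ha)), hω m hm b hb] at h1
    have h2 : z ^ i = z ^ 2 := hzj i 2 (by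
      have h3 : (k : ZMod p) * i = 1 := mul_right_cancel₀ hc (by linear_combination h1)
      push_cast
      linear_combination 2 * h3 - i * hk')
    have h3 := hzW _ (pow_mem hz 2) w hw
    rw [← F.conj g w hw.1 _ (hzW z hz w hw).1, g1]
    congr 1
    calc g * (z * w * z⁻¹) * g⁻¹ = g * z * g⁻¹ * (g * w * g⁻¹) * (g * z * g⁻¹)⁻¹ := by group
      _ = m * (b * (z ^ 2 * w * (z ^ 2)⁻¹) * b⁻¹) * m⁻¹ := by rw [g1, e, h2]; group
      _ = _ := by rw [h3.2 b hb, mul_inv_cancel_right, hMc m hm _ h3.1, mul_inv_cancel_right]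
  · exact Nat.Coprime.mul_left (k := p) (m := 2) (n := 3)
      ((Nat.coprime_primes Nat.prime_two hp).2 (by omega))
      ((Nat.coprime_primes Nat.prime_three hp).2 (by omega))

theorem thmN : ThmN.{u} := by
  refine induction_on_card fun X _ _ ih => ?_
  intro hs h p hp h5 hd
  haveI := Fact.mk hp
  by_cases h0 : pCore p X = ⊥
  · rw [h0, index_bot] at hd
    haveI : Nontrivial X := Finite.one_lt_card_iff_nontrivial.1
      (hp.one_lt.trans_le (Nat.le_of_dvd Nat.card_pos hd))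
    obtain ⟨M, q, hq, hM, he⟩ := exists_isMinNormal_isElementaryAbelian X
    haveI := hM.normal
    haveI := Fact.mk hq
    have hqp : q ≠ p := by
      rintro rfl
      exact hM.ne_bot (le_bot_iff.1 (h0 ▸ le_pCore (isPGroup_of_isElementaryAbelian he)))
    have h1 := ih (X ⧸ M) (card_quotient_lt hM.ne_bot) inferInstance (h.quotient M) p hp h5
    have h2 : pCore p (X ⧸ M) ≠ ⊥ := by
      intro e
      rw [e, index_bot] at h1
      obtain ⟨m, hm⟩ := IsPGroup.iff_card.1 (isPGroup_of_isElementaryAbelian he)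
      rw [card_eq_card_quotient_mul_card_subgroup M, hm] at hd
      exact hqp ((Nat.prime_dvd_prime_iff_eq hp hq).1 (hp.dvd_of_dvd_pow
        (((Nat.Prime.dvd_mul hp).1 hd).resolve_left h1))).symm
    obtain ⟨Ω, hΩ, hle⟩ := exists_isMinNormal_le _ h2
    exact thmN_core h hp h5 hq hqp hM he hΩ (isPGroup_of_le_pCore hle) h0
  · have h1 := ih (X ⧸ pCore p X) (card_quotient_lt h0) inferInstance (h.quotient _) p hp h5
    rw [pCore_quotient_pCore, index_bot] at h1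
    exact h1 hd

end CL.AH
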